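import Cfsg.Agent.Lib.Symplectic.Std
import Cfsg.Agent.Lib.FischerThm.Defs

/-!
# Classes in which every involution centralises a member

Symmetric, symplectic and unitary groups over fields of characteristic two.
-/
set_option autoImplicit false
set_option linter.style.haveILetI false
set_option linter.unusedSectionVars false

open Cfsg Matrix Module
open Cfsg.Agent.Lib.FischerThm (IsSymClass IsSpClass IsUClass)

namespace Cfsg.Agent.Lib.FischerTriality11

universe u

variable {X : Type u} [Group X] {E : Set X}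

theorem exists_commute_sym {n : ℕ} (hn : 5 ≤ n) (h : IsSymClass E n) {u : X} (hu : u * u = 1) :
    ∃ w ∈ E, Commute u w := by
  obtain ⟨e, he⟩ := h
  have hs : e u * e u = 1 := by rw [← map_mul, hu, map_one]
  obtain ⟨τ, hτ, hc⟩ : ∃ τ : Equiv.Perm (Fin n), τ.IsSwap ∧ Commute (e u) τ := by
    by_cases h1 : e u = 1
    · exact ⟨Equiv.swap ⟨0, by omega⟩ ⟨1, by omega⟩, ⟨_, _, by simp, rfl⟩,
        by rw [h1]; exact Commute.one_left _⟩
    · obtain ⟨x, hx⟩ : ∃ x, e u x ≠ x := by
        by_contra hcon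
        push Not at hcon
        exact h1 (Equiv.ext hcon)
      refine ⟨Equiv.swap x (e u x), ⟨x, e u x, hx.symm, rfl⟩, ?_⟩
      show e u * _ = _
      rw [Equiv.mul_swap_eq_swap_mul, ← Equiv.Perm.mul_apply, hs, Equiv.Perm.one_apply,
        Equiv.swap_comm]
  have hτ' : τ ∈ e '' E := he ▸ hτ
  obtain ⟨w, hw, rfl⟩ := hτ'
  exact ⟨w, hw, e.injective (by rw [map_mul, map_mul, hc.eq])⟩

theorem rank_eq_one {K ι : Type*} [Field K] [Fintype ι] [DecidableEq ι] (M : Matrix ι ι K)
    {v : ι → K} (hv : v ≠ 0) (hle : ∀ x, ∃ c : K, M *ᵥ x = c • v) (hmem : ∃ x, M *ᵥ x = v) :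
    M.rank = 1 := by
  have e : LinearMap.range M.mulVecLin = K ∙ v := by
    refine le_antisymm ?_ ?_
    · rintro _ ⟨x, rfl⟩
      obtain ⟨c, hc⟩ := hle x
      exact Submodule.mem_span_singleton.2 ⟨c, hc.symm⟩
    · rw [Submodule.span_singleton_le_iff_mem]
      obtain ⟨x, hx⟩ := hmem
      exact ⟨x, hx⟩
  rw [Matrix.rank, e, finrank_span_singleton hv]

theorem exists_commute_sp {m : ℕ} (hm : 2 ≤ m) (h : IsSpClass E m) {u : X} (hu : u * u = 1) :
    ∃ w ∈ E, Commute u w := by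
  obtain ⟨e, he⟩ := h
  have hs : e u * e u = 1 := by rw [← map_mul, hu, map_one]
  set A : Matrix (Fin m ⊕ Fin m) (Fin m ⊕ Fin m) (ZMod 2) := ((e u).1 : Matrix (Fin m ⊕ Fin m) (Fin m ⊕ Fin m) (ZMod 2)) with hA
  have hAA : A * A = 1 := congrArg Subtype.val hs
  have h2 : ∀ x : Fin m ⊕ Fin m → ZMod 2, x + x = 0 := fun x => funext fun i =>
    CharTwo.add_self_eq_zero (x i)
  obtain ⟨v, hv0, hv⟩ : ∃ v, v ≠ 0 ∧ A *ᵥ v = v := by
    by_cases h1 : ∀ x, A *ᵥ x = x
    · exact ⟨Pi.single (Sum.inl ⟨0, by omega⟩) 1, by simp, h1 _⟩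
    · push Not at h1
      obtain ⟨x, hx⟩ := h1
      refine ⟨x + A *ᵥ x, fun h0 => hx ?_, ?_⟩
      · calc A *ᵥ x = x + x + A *ᵥ x := by rw [h2, zero_add]
          _ = x := by rw [add_assoc, h0, add_zero]
      · rw [mulVec_add, mulVec_mulVec, hAA, one_mulVec, add_comm]
  obtain ⟨z, hz⟩ : ∃ z, Lib.Symplectic.stdForm m (ZMod 2) v z = 1 := by
    by_contra hcon
    push Not at hcon
    have hall : ∀ z, Lib.Symplectic.stdForm m (ZMod 2) v z = 0 := fun z =>
      (by revert hcon; exact fun hcon => (show ∀ a : ZMod 2, a ≠ 1 → a = 0 by decide) _ (hcon z))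
    apply hv0
    funext i
    rcases i with i | i
    · have := hall (Pi.single (Sum.inr i) 1)
      simpa [Lib.Symplectic.stdForm_apply, Pi.single_apply] using this
    · have := hall (Pi.single (Sum.inl i) 1)
      simpa [Lib.Symplectic.stdForm_apply, Pi.single_apply] using this
  let t : symplecticGroup (Fin m) (ZMod 2) :=
    (Lib.Symplectic.spEquiv m (ZMod 2)).symm
      (Lib.Symplectic.transv (Lib.Symplectic.isSympForm_stdForm m (ZMod 2)) v 1)
  have ht : ∀ x, (t : Matrix _ _ (ZMod 2)) *ᵥ x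
      = x + Lib.Symplectic.stdForm m (ZMod 2) v x • v := fun x => by
    rw [Lib.Symplectic.spEquiv_symm_mulVec, Lib.Symplectic.transv_smul, one_mul]
    congr 2
    rw [Lib.Symplectic.stdForm_apply, Lib.Symplectic.stdForm_apply]
    exact Finset.sum_congr rfl fun i _ => by
      simp [CharTwo.sub_eq_add, mul_comm, add_comm]
  have hrk : ((t : Matrix _ _ (ZMod 2)) - 1).rank = 1 :=
    rank_eq_one _ hv0 (fun x => ⟨_, by rw [sub_mulVec, ht, one_mulVec, add_sub_cancel_left]⟩)
      ⟨z, by rw [sub_mulVec, ht, one_mulVec, add_sub_cancel_left, hz, one_smul]⟩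
  have ht' : t ∈ e '' E := he ▸ hrk
  obtain ⟨w, hw, hwt⟩ := ht'
  refine ⟨w, hw, e.injective ?_⟩
  rw [map_mul, map_mul, hwt]
  apply Subtype.ext
  refine Matrix.mulVec_injective (funext fun x => ?_)
  show (A * (t : Matrix _ _ (ZMod 2))) *ᵥ x = ((t : Matrix _ _ (ZMod 2)) * A) *ᵥ x
  rw [← mulVec_mulVec, ← mulVec_mulVec, ht, ht, mulVec_add, mulVec_smul, hv]
  have := (Lib.Symplectic.mem_sp_iff (A := A)).1 (e u).2 v x
  rw [hv] at this
  rw [this]

section Unitary

variable {F : Type} [Field F] [Fintype F] {n : ℕ}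

theorem charP_two (hF : Fintype.card F = 4) : CharP F 2 := by
  obtain ⟨p, hp⟩ := CharP.exists F
  haveI := hp
  obtain ⟨k, hpp, hk⟩ := FiniteField.card F p
  rw [hF] at hk
  have hdvd : p ∣ 2 ^ 2 := by rw [show (2 : ℕ) ^ 2 = 4 by norm_num, hk]; exact dvd_pow_self p k.ne_zero
  have := (Nat.prime_dvd_prime_iff_eq hpp Nat.prime_two).1 (hpp.dvd_of_dvd_pow hdvd)
  exact this ▸ hp

variable [CharP F 2]

theorem herm_add_left (x y z : Fin n → F) :
    hermForm n F 2 (x + y) z = hermForm n F 2 x z + hermForm n F 2 y z := by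
  simp [hermForm, add_mul, Finset.sum_add_distrib]

theorem herm_add_right (x y z : Fin n → F) :
    hermForm n F 2 x (y + z) = hermForm n F 2 x y + hermForm n F 2 x z := by
  simp [hermForm, CharTwo.add_sq, mul_add, Finset.sum_add_distrib]

theorem herm_smul_left (c : F) (x y : Fin n → F) :
    hermForm n F 2 (c • x) y = c * hermForm n F 2 x y := by
  simp [hermForm, Finset.mul_sum, mul_assoc]

theorem herm_smul_right (c : F) (x y : Fin n → F) :
    hermForm n F 2 x (c • y) = c ^ 2 * hermForm n F 2 x y := by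
  simp [hermForm, Finset.mul_sum, mul_pow, mul_left_comm]

theorem herm_conj (hF : Fintype.card F = 4) (x y : Fin n → F) :
    hermForm n F 2 y x ^ 2 = hermForm n F 2 x y := by
  simp only [hermForm]
  rw [CharTwo.sum_sq]
  refine Finset.sum_congr rfl fun i _ => ?_
  have : x i ^ 4 = x i := by rw [← hF]; exact FiniteField.pow_card (x i)
  rw [mul_pow, ← pow_mul, this, mul_comm]

theorem exists_transvection (hF : Fintype.card F = 4) {v : Fin n → F} (hv0 : v ≠ 0)
    (hv : hermForm n F 2 v v = 0) :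
    ∃ t : SU n F 2, (∀ x, slToMat n F (t : SpecialLinearGroup (Fin n) F) *ᵥ x
        = x + hermForm n F 2 x v • v) ∧
      (((t : SpecialLinearGroup (Fin n) F) : Matrix (Fin n) (Fin n) F) - 1).rank = 1 := by
  set T : Matrix (Fin n) (Fin n) F := 1 + vecMulVec v (fun i => v i ^ 2) with hT
  have hTx : ∀ x, T *ᵥ x = x + hermForm n F 2 x v • v := fun x => by
    rw [hT, add_mulVec, one_mulVec]
    congr 1
    funext i
    simp [vecMulVec, mulVec, dotProduct, hermForm, Finset.mul_sum, mul_comm, mul_left_comm]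
  have hdet : T.det = 1 := by
    rw [hT, vecMulVec_eq Unit, det_one_add_replicateCol_mul_replicateRow]
    have : (fun i => v i ^ 2) ⬝ᵥ v = hermForm n F 2 v v := by
      simp [dotProduct, hermForm, mul_comm]
    rw [this, hv, add_zero]
  have hmem : (⟨T, hdet⟩ : SpecialLinearGroup (Fin n) F) ∈ SU n F 2 := by
    intro x y
    show hermForm n F 2 (T *ᵥ x) (T *ᵥ y) = hermForm n F 2 x y
    rw [hTx, hTx, herm_add_left, herm_add_right, herm_add_right, herm_smul_left, herm_smul_left,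
      herm_smul_right, herm_smul_right, hv, mul_zero, mul_zero, add_zero, herm_conj hF v y]
    rw [mul_comm (hermForm n F 2 v y) (hermForm n F 2 x v), add_assoc, CharTwo.add_self_eq_zero,
      add_zero]
  refine ⟨⟨_, hmem⟩, hTx, rank_eq_one _ hv0 (fun x => ⟨hermForm n F 2 x v, ?_⟩) ?_⟩
  · show (T - 1) *ᵥ x = _
    rw [sub_mulVec, hTx, one_mulVec, add_sub_cancel_left]
  · obtain ⟨i, hi⟩ := Function.ne_iff.1 hv0
    refine ⟨((v i) ^ 2)⁻¹ • Pi.single i 1, ?_⟩
    show (T - 1) *ᵥ _ = v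
    rw [sub_mulVec, hTx, one_mulVec, add_sub_cancel_left]
    have hi' : (v i) ^ 2 ≠ 0 := pow_ne_zero 2 hi
    simp [hermForm, Pi.single_apply, inv_mul_cancel₀ hi']

end Unitary

theorem exists_commute_unitary {n : ℕ} (hn : 4 ≤ n) (h : IsUClass E n) {u : X} (hu : u * u = 1) :
    ∃ w ∈ E, Commute u w := by
  obtain ⟨F, _, _, hF, e, he⟩ := h
  haveI := charP_two hF
  obtain ⟨g, hg⟩ := QuotientGroup.mk_surjective (e u)
  have hgu : (QuotientGroup.mk g : PSU n F 2) ^ 2 = 1 := by
    rw [hg, pow_two, ← map_mul, hu, map_one]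
  have ho : orderOf g ≠ 0 := (orderOf_pos g).ne'
  obtain ⟨s, k, hk, hok⟩ := Nat.exists_eq_two_pow_mul_odd ho
  set h := g ^ k with hh
  have hhu : (QuotientGroup.mk h : PSU n F 2) = e u := by
    obtain ⟨j, rfl⟩ := hk
    rw [hh, QuotientGroup.mk_pow, pow_succ, pow_mul, hgu, one_pow, one_mul, hg]
  have hhs : h ^ 2 ^ s = 1 := by rw [hh, ← pow_mul, mul_comm, ← hok, pow_orderOf_eq_one]
  set H : Matrix (Fin n) (Fin n) F := slToMat n F (h : SpecialLinearGroup (Fin n) F) with hH
  have hiso : ∀ x y, hermForm n F 2 (H *ᵥ x) (H *ᵥ y) = hermForm n F 2 x y := h.2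
  obtain ⟨v, hv0, hfix, hv⟩ : ∃ v : Fin n → F, v ≠ 0 ∧ H *ᵥ v = v ∧ hermForm n F 2 v v = 0 := by
    classical
    have h2 : ∀ a : F, a + a = 0 := CharTwo.add_self_eq_zero
    set A : Matrix (Fin n) (Fin n) F := H + 1 with hA
    haveI : CharP (Matrix (Fin n) (Fin n) F) 2 := by
      haveI : Nonempty (Fin n) := ⟨⟨0, by omega⟩⟩
      infer_instance
    have hnil : A ^ 2 ^ s = 0 := by
      rw [hA, add_pow_char_pow_of_commute _ _ (Commute.one_right H), one_pow, hH,
        ← map_pow, ← SubmonoidClass.coe_pow, hhs, Subgroup.coe_one, map_one, CharTwo.add_self_eq_zero]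
    by_cases hA0 : A = 0
    · have hH1 : H = 1 := by
        rw [hA] at hA0
        rw [eq_neg_of_add_eq_zero_left hA0, CharTwo.neg_eq]
      refine ⟨Pi.single ⟨0, by omega⟩ 1 + Pi.single ⟨1, by omega⟩ 1, fun h0 => ?_,
        by rw [hH1, one_mulVec], ?_⟩
      · have := congrFun h0 ⟨0, by omega⟩
        simp [Pi.single_apply] at this
      · rw [herm_add_left, herm_add_right, herm_add_right]
        simp [hermForm, Pi.single_apply, h2]
    · have hex : ∃ j, A ^ j = 0 := ⟨_, hnil⟩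
      set j := Nat.find hex
      have hj : A ^ j = 0 := Nat.find_spec hex
      have hj2 : 2 ≤ j := by
        by_contra hlt
        haveI : Nonempty (Fin n) := ⟨⟨0, by omega⟩⟩
        rcases (show j = 0 ∨ j = 1 by omega) with e0 | e0 <;> rw [e0] at hj
        · rw [pow_zero] at hj; exact one_ne_zero hj
        · rw [pow_one] at hj; exact hA0 hj
      have hne : A ^ (j - 1) ≠ 0 := Nat.find_min hex (by omega)
      obtain ⟨x, hx⟩ : ∃ x, A ^ (j - 1) *ᵥ x ≠ 0 := by
        by_contra hcon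
        push Not at hcon
        exact hne (Matrix.mulVec_injective (funext fun x => by simpa using hcon x))
      have hfix : H *ᵥ (A ^ (j - 1) *ᵥ x) = A ^ (j - 1) *ᵥ x := by
        have e1 : (A * A ^ (j - 1)) *ᵥ x = 0 := by
          rw [← pow_succ', show j - 1 + 1 = j by omega, hj, zero_mulVec]
        rw [← mulVec_mulVec, hA, add_mulVec, one_mulVec] at e1
        exact eq_of_sub_eq_zero (by
          rw [sub_eq_add_neg]
          convert e1 using 2
          exact funext fun i => CharTwo.neg_eq _)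
      refine ⟨_, hx, hfix, ?_⟩
      set v := A ^ (j - 1) *ᵥ x with hv
      obtain ⟨y, hy⟩ : ∃ y, v = A *ᵥ y :=
        ⟨A ^ (j - 2) *ᵥ x, by rw [hv, mulVec_mulVec, ← pow_succ', show j - 2 + 1 = j - 1 by omega]⟩
      nth_rw 1 [hy]
      rw [hA, add_mulVec, one_mulVec, herm_add_left]
      nth_rw 1 [← hfix]
      rw [hiso, h2]
  obtain ⟨t, htx, hrk⟩ := exists_transvection hF hv0 hv
  have ht' : (QuotientGroup.mk t : PSU n F 2) ∈ e '' E := he ▸ ⟨t, hrk, rfl⟩
  obtain ⟨w, hw, hwt⟩ := ht'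
  refine ⟨w, hw, e.injective ?_⟩
  rw [map_mul, map_mul, hwt, ← hhu, ← QuotientGroup.mk_mul, ← QuotientGroup.mk_mul]
  refine congrArg _ (Subtype.ext (Subtype.ext ?_))
  refine Matrix.mulVec_injective (funext fun x => ?_)
  set T : Matrix (Fin n) (Fin n) F := slToMat n F (t : SpecialLinearGroup (Fin n) F)
  show (H * T) *ᵥ x = (T * H) *ᵥ x
  rw [← mulVec_mulVec, ← mulVec_mulVec, htx, htx, mulVec_add, mulVec_smul, hfix]
  conv_lhs => rw [← hiso x v, hfix]

end Cfsg.Agent.Lib.FischerTriality11
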