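import Cfsg.Agent.Lib.FischerTriality11.Twin

/-!
# Three twins do not fit
-/
set_option autoImplicit false

namespace Cfsg.Agent.Lib.FischerTriality11

universe u

variable {X : Type u} [Group X] [Finite X] {E : Set X}

theorem no_three (M : ℕ) (hclosed : ∀ g : X, ∀ x ∈ E, g * x * g⁻¹ ∈ E)
    (hM : ∀ p ∈ E, ∀ q ∈ E, p ≠ q → Commute p q →
      {u : X | IsFpfInvol E u ∧ u * p * u⁻¹ = q}.ncard ≤ M)
    (hn : 2 * M < 3 * E.ncard)
    (hinj : ∀ p ∈ E, ∀ q ∈ E, ∀ r ∈ E, ∀ s ∈ E, p ≠ q → r ≠ s → Commute p q → Commute r s →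
      p * q = r * s → p = r ∨ p = s)
    (hpair : ∃ p ∈ E, ∃ q ∈ E, q ≠ p ∧ Commute p q)
    (ψ : Fin 3 → X → X → X) (T : ∀ i, Twin E (ψ i))
    (hap : ∀ i j, i ≠ j → Apart E (ψ i) (ψ j)) : False := by
  classical
  haveI := Fintype.ofFinite X
  set F : Finset X := E.toFinset with hF
  have hmemF : ∀ {x}, x ∈ F ↔ x ∈ E := fun {x} => Set.mem_toFinset
  set P : Finset (X × X) := (F ×ˢ F).filter fun p => p.1 ≠ p.2 ∧ Commute p.1 p.2 with hP
  have hmemP : ∀ {p : X × X}, p ∈ P → p.1 ∈ E ∧ p.2 ∈ E ∧ p.1 ≠ p.2 ∧ Commute p.1 p.2 := by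
    intro p hp
    rw [hP, Finset.mem_filter, Finset.mem_product, hmemF, hmemF] at hp
    exact ⟨hp.1.1, hp.1.2, hp.2⟩
  let U : Fin 3 → Finset X := fun i => P.image fun p => ψ i p.1 p.2
  have hhalf : ∀ i, P.card ≤ 2 * (U i).card := by
    intro i
    refine Finset.card_le_mul_card_image P 2 fun u hu => ?_
    obtain ⟨⟨r, s⟩, hrs, rfl⟩ := Finset.mem_image.1 hu
    obtain ⟨hr, hs, hne, hc⟩ := hmemP hrs
    refine le_trans (Finset.card_le_card (t := {(r, s), (s, r)}) fun p hp => ?_) Finset.card_le_two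
    rw [Finset.mem_filter] at hp
    obtain ⟨hp1, hp2, hpne, hpc⟩ := hmemP hp.1
    have h := (T i).inj _ hp1 _ hp2 _ hr _ hs hp.2
    rw [Finset.mem_insert, Finset.mem_singleton]
    rcases hinj _ hp1 _ hp2 _ hr _ hs hpne hne hpc hc h with e | e
    · left
      rw [e] at h
      exact Prod.ext e (mul_left_cancel h)
    · right
      rw [e, hc.eq] at h
      exact Prod.ext e (mul_left_cancel h)
  have hdisj : Set.PairwiseDisjoint (Finset.univ : Finset (Fin 3)) U := by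
    intro i _ j _ hij
    rw [Function.onFun, Finset.disjoint_left]
    intro u hu hu'
    obtain ⟨p, hp, rfl⟩ := Finset.mem_image.1 hu
    obtain ⟨q, hq, hqe⟩ := Finset.mem_image.1 hu'
    obtain ⟨hp1, hp2, hpne, hpc⟩ := hmemP hp
    obtain ⟨hq1, hq2, hqne, hqc⟩ := hmemP hq
    exact hap i j hij _ hp1 _ hp2 _ hq1 _ hq2 hpne hqne hpc hqc hqe.symm
  set W := (Finset.univ : Finset (Fin 3)).biUnion U with hW
  have hWcard : 3 * P.card ≤ 2 * W.card := by
    rw [hW, Finset.card_biUnion hdisj, Fin.sum_univ_three]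
    have := hhalf 0; have := hhalf 1; have := hhalf 2
    omega
  have hWmem : ∀ u ∈ W, IsFpfInvol E u ∧ ∀ x ∈ E, Commute x (u * x * u⁻¹) ∧ u * x * u⁻¹ ≠ x := by
    intro u hu
    obtain ⟨i, -, hu⟩ := Finset.mem_biUnion.1 hu
    obtain ⟨p, hp, rfl⟩ := Finset.mem_image.1 hu
    obtain ⟨hp1, hp2, hpne, hpc⟩ := hmemP hp
    refine ⟨(T i).isFpfInvol hp1 hp2 hpne hpc, fun x hx => ⟨(T i).shift _ hp1 _ hp2 hpc x hx, ?_⟩⟩
    intro h
    exact (T i).fpf _ hp1 _ hp2 hpne x hx (mul_inv_eq_iff_eq_mul.1 h)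
  obtain ⟨p₀, hp₀, q₀, hq₀, hne₀, hc₀⟩ := hpair
  have hP0 : 0 < P.card := Finset.card_pos.2 ⟨(p₀, q₀), by
    rw [hP, Finset.mem_filter, Finset.mem_product, hmemF, hmemF]
    exact ⟨⟨hp₀, hq₀⟩, hne₀.symm, hc₀⟩⟩
  have hcount : (W ×ˢ F).card ≤ M * P.card := by
    refine Finset.card_le_mul_card_image_of_maps_to (f := fun ux => (ux.2, ux.1 * ux.2 * ux.1⁻¹))
      (fun ux hux => ?_) M fun p hp => ?_
    · rw [Finset.mem_product] at hux
      obtain ⟨hc, hne⟩ := (hWmem _ hux.1).2 _ (hmemF.1 hux.2)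
      rw [hP, Finset.mem_filter, Finset.mem_product, hmemF, hmemF]
      exact ⟨⟨hmemF.1 hux.2, hclosed _ _ (hmemF.1 hux.2)⟩, hne.symm, hc⟩
    · obtain ⟨hp1, hp2, hpne, hpc⟩ := hmemP hp
      refine le_trans ?_ (hM _ hp1 _ hp2 hpne hpc)
      rw [← Set.ncard_coe_finset]
      refine Set.ncard_le_ncard_of_injOn Prod.fst (fun ux hux => ?_) ?_ (Set.toFinite _)
      · simp only [Finset.coe_filter, Set.mem_setOf_eq, Finset.mem_product] at hux
        obtain ⟨⟨hu, -⟩, he⟩ := hux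
        refine ⟨(hWmem _ hu).1, ?_⟩
        rw [← congrArg Prod.fst he]
        exact congrArg Prod.snd he
      · intro a ha b hb hab
        simp only [Finset.coe_filter, Set.mem_setOf_eq] at ha hb
        exact Prod.ext hab ((congrArg Prod.fst ha.2).trans (congrArg Prod.fst hb.2).symm)
  rw [Finset.card_product, show F.card = E.ncard from (Set.ncard_eq_toFinset_card' E).symm] at hcount
  have h1 : 3 * P.card * E.ncard ≤ 2 * W.card * E.ncard := Nat.mul_le_mul_right _ hWcard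
  have h2 : 3 * E.ncard * P.card ≤ 2 * M * P.card :=
    calc 3 * E.ncard * P.card = 3 * P.card * E.ncard := by ring
      _ ≤ 2 * (W.card * E.ncard) := by rw [← mul_assoc]; exact h1
      _ ≤ 2 * (M * P.card) := Nat.mul_le_mul_left 2 hcount
      _ = 2 * M * P.card := by ring
  exact absurd (Nat.le_of_mul_le_mul_right h2 hP0) (not_le.2 hn)

end Cfsg.Agent.Lib.FischerTriality11
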