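import Mathlib

/-!
# Backtracking counts in the two eight-dimensional models

Columns of self-adjoint isometries over two elements and of skew isometries over three elements
with a prescribed pair of images, counted by kernel computation.
-/
set_option autoImplicit false

namespace Cfsg.Agent.Lib.FischerTriality11.Enum

/-- All ways to choose one entry from each list, pairwise compatible. -/
def sols {α : Type} (compat : α → α → Bool) : ℕ → List (List α) → List (List α)
  | 0, _ => [[]]
  | _ + 1, [] => [[]]
  | n + 1, l :: ls => l.flatMap fun v => (sols compat n (ls.map (List.filter (compat v)))).map (v :: ·)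

theorem mem_sols {α : Type} {compat : α → α → Bool} : ∀ {n : ℕ} {ls : List (List α)} {w : List α},
    w.length = n → List.Forall₂ (fun a l => a ∈ l) w ls →
    w.Pairwise (fun a b => compat a b = true) → w ∈ sols compat n ls := by
  intro n
  induction n with
  | zero =>
    intro ls w hn _ _
    rw [List.length_eq_zero_iff.1 hn]
    simp [sols]
  | succ n ih =>
    intro ls w hn h hp
    rcases w with _ | ⟨a, w⟩
    · simp at hn
    cases h with
    | @cons _ l _ ls ha hw =>
      simp only [sols, List.mem_flatMap, List.mem_map]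
      refine ⟨a, ha, w, ih (by simpa using hn) ?_ (List.pairwise_cons.1 hp).2, rfl⟩
      have hcomp : ∀ b ∈ w, compat a b = true := (List.pairwise_cons.1 hp).1
      clear hp hn ih
      induction hw with
      | nil => exact List.Forall₂.nil
      | cons hb _ ih2 =>
        exact List.Forall₂.cons (List.mem_filter.2 ⟨hb, hcomp _ List.mem_cons_self⟩)
          (ih2 fun b hb' => hcomp b (List.mem_cons_of_mem _ hb'))

/-! ### Two elements, hyperbolic coordinates -/

/-- bit `i` -/
def bit (p i : ℕ) : Bool := p.testBit i

/-- the quadratic form on codes -/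
def q2 (p : ℕ) : Bool :=
  ((bit p 0 && bit p 4) ^^ (bit p 1 && bit p 5)) ^^ ((bit p 2 && bit p 6) ^^ (bit p 3 && bit p 7))

/-- one term of the polar form -/
def term2 (p q i : ℕ) : Bool := (bit p i && bit q (i + 4)) ^^ (bit q i && bit p (i + 4))

/-- the polar form on codes -/
def b2 (p q : ℕ) : Bool := (term2 p q 0 ^^ term2 p q 1) ^^ (term2 p q 2 ^^ term2 p q 3)

/-- the code of the `i`th coordinate vector -/
def unit2 (i : ℕ) : ℕ := 2 ^ i

/-- candidates for the image of the `i`th coordinate vector -/
def cand2 (i : ℕ) : List (ℕ × ℕ) :=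
  ((List.range 256).filter fun p => (q2 p == q2 (unit2 i)) && (b2 (unit2 i) p == false)).map fun p => (i, p)

/-- compatibility of two images; the first moved pair is `e₀ + f₀ ↦ e₁ + f₁ ↦ e₀ + f₀` -/
def compat2 (a b : ℕ × ℕ) : Bool :=
  (b2 a.2 b.2 == b2 (unit2 a.1) (unit2 b.1)) && (b2 (unit2 a.1) b.2 == b2 a.2 (unit2 b.1)) &&
    (!(a.1 == 0 && b.1 == 4) || (a.2 ^^^ b.2 == 34)) && (!(a.1 == 1 && b.1 == 5) || (a.2 ^^^ b.2 == 17))

/-- the order of the coordinates in the search -/
def order2 : List ℕ := [0, 4, 1, 5, 2, 6, 3, 7]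

theorem count2 : (sols compat2 8 (order2.map cand2)).length ≤ 140 := by decide +kernel

/-! ### Three elements, orthonormal coordinates -/

/-- dot product -/
def dot3 (p q : List (ZMod 3)) : ZMod 3 := ((p.zip q).map fun x => x.1 * x.2).sum

/-- all lists of length `n` -/
def all3 : ℕ → List (List (ZMod 3))
  | 0 => [[]]
  | n + 1 => ([0, 1, 2] : List (ZMod 3)).flatMap fun a => (all3 n).map (a :: ·)

theorem mem_all3 : ∀ (p : List (ZMod 3)), p ∈ all3 p.length := by
  intro p
  induction p with
  | nil => simp [all3]
  | cons a p ih =>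
    simp only [List.length_cons, all3, List.mem_flatMap, List.mem_map]
    exact ⟨a, (show ∀ a : ZMod 3, a ∈ ([0, 1, 2] : List (ZMod 3)) by decide) a, p, ih, rfl⟩

/-- the `i`th coordinate vector -/
def unit3 (i : ℕ) : List (ZMod 3) := (List.range 8).map fun j => if j = i then 1 else 0

/-- the prescribed images `e₀ ↦ e₁`, `e₁ ↦ -e₀` -/
def fixed3 : List (ℕ × List (ZMod 3)) := [(0, unit3 1), (1, (unit3 0).map fun x => -x)]

/-- the vectors of norm one -/
def ones3 : List (List (ZMod 3)) := (all3 8).filter fun p => dot3 p p == 1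

/-- compatibility of two images -/
def compat3 (a b : ℕ × List (ZMod 3)) : Bool :=
  (dot3 a.2 b.2 == 0) && (dot3 (unit3 a.1) b.2 + dot3 (unit3 b.1) a.2 == 0)

/-- candidates for the image of the `i`th coordinate vector -/
def cand3 (i : ℕ) (l : List (List (ZMod 3))) : List (ℕ × List (ZMod 3)) :=
  (l.filter fun p => (dot3 (unit3 i) p == 0) && fixed3.all fun a => compat3 a (i, p)).map fun p => (i, p)

theorem count3 :
    (sols compat3 6 (([2, 3, 4, 5, 6, 7] : List ℕ).map fun i => cand3 i ones3)).length ≤ 1080 := by
  decide +kernel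

end Cfsg.Agent.Lib.FischerTriality11.Enum
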