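import Cfsg.Agent.Lib.FischerTriality11.OThree
import Cfsg.Agent.Lib.FischerTriality11.Enum

/-!
# Dimension eight over three elements

In orthonormal coordinates an ordered commuting pair is exchanged by at most 1080 involutions
centralising no member of the class, which has at least 1080 members.
-/
set_option autoImplicit false
set_option linter.unusedSectionVars false

open Module QuadraticMap
open Cfsg.Agent.Lib.Forms

namespace Cfsg.Agent.Lib.FischerTriality11.OThree

universe u

/-- eight coordinates -/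
abbrev V8 : Type := Fin 8 → ZMod 3

/-- the sum of eight squares -/
noncomputable def sq8 : QuadraticForm (ZMod 3) V8 :=
  weightedSumSquares (ZMod 3) (fun _ : Fin 8 => (1 : ZMod 3))

theorem sq8_apply (v : V8) : sq8 v = ∑ i, v i * v i := by
  simp [sq8, weightedSumSquares_apply]

theorem sq8_polar (u v : V8) : polar sq8 u v = 2 * ∑ i, u i * v i := by
  simp only [polar, sq8_apply, Pi.add_apply, Finset.mul_sum, ← Finset.sum_sub_distrib]
  exact Finset.sum_congr rfl fun i _ => by ring

theorem sq8_nondeg : Nondeg sq8 := by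
  intro x hx
  funext i
  have h := hx (Pi.single i 1)
  rw [sq8_polar, Finset.sum_eq_single i (fun j _ hj => by simp [hj]) (by simp), Pi.single_eq_same,
    mul_one] at h
  exact (mul_eq_zero.1 h).resolve_left two_ne

variable {X : Type u} [Group X] {E : Set X}

/-- A model in dimension eight in which some involution centralises no member has orthonormal
coordinates. -/
theorem exists_std {V : Type} [AddCommGroup V] [Module (ZMod 3) V] [FiniteDimensional (ZMod 3) V]
    {Q : QuadraticForm (ZMod 3) V} {c : ZMod 3} {lin : X → (V →ₗ[ZMod 3] V)} (M : Model E Q c lin)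
    (h8 : finrank (ZMod 3) V = 8) {u : X} (hu : IsFpfInvol E u) :
    ∃ g : V8 ≃ₗ[ZMod 3] V, (∀ a, Q (g a) = c * sq8 a) ∧
      Model E sq8 1 (fun w => g.symm.toLinearMap ∘ₗ lin w ∘ₗ g.toLinearMap) := by
  obtain ⟨hJ, hsk⟩ := M.fix_invol hu
  obtain ⟨f, hf, hff⟩ := exists_full_frame (c := c) 4 Q (lin u) M.nondeg (by rw [h8]) hJ (M.iso u) hsk M.ne
  let f' : Fin 8 → V := f
  let g₀ : V8 →ₗ[ZMod 3] V := Fintype.linearCombination (ZMod 3) f'
  have hg0 : ∀ a, g₀ a = ∑ i, a i • f' i := fun a => rfl
  have hpol : ∀ a b, polar Q (g₀ a) (g₀ b) = c * polar sq8 a b := by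
    intro a b
    rw [hg0, hg0, ← polarBilin_apply_apply, LinearMap.map_sum₂, sq8_polar, Finset.mul_sum,
      Finset.mul_sum]
    refine Finset.sum_congr rfl fun i _ => ?_
    rw [LinearMap.map_smul₂, map_sum]
    rw [Finset.sum_eq_single i]
    · rw [map_smul, polarBilin_apply_apply, polar_self', show Q (f' i) = c from hf i]
      simp only [smul_eq_mul]; ring
    · intro j _ hj
      rw [map_smul, polarBilin_apply_apply, show polar Q (f' i) (f' j) = 0 from hff i j hj.symm,
        smul_zero]
    · simp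
  have hQ : ∀ a, Q (g₀ a) = c * sq8 a := by
    intro a
    have h := hpol a a
    rw [polar_self', polar_self', mul_left_comm] at h
    exact mul_left_cancel₀ two_ne h
  have hinj : Function.Injective g₀ := by
    intro a b h
    refine sub_eq_zero.1 (sq8_nondeg _ fun z => ?_)
    have h' := hpol (a - b) z
    rw [map_sub, h, sub_self, polar_zero_left] at h'
    exact (mul_eq_zero.1 h'.symm).resolve_left M.ne
  let g : V8 ≃ₗ[ZMod 3] V := LinearEquiv.ofBijective g₀
    ⟨hinj, (LinearMap.injective_iff_surjective_of_finrank_eq_finrank (by rw [h8]; simp)).1 hinj⟩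
  have hQg : ∀ a, Q (g a) = c * sq8 a := hQ
  have hQs : ∀ x, c * sq8 (g.symm x) = Q x := fun x => by rw [← hQg, g.apply_symm_apply]
  have hrefl : ∀ v : V8, g.symm.toLinearMap ∘ₗ reflMap Q (g v) ∘ₗ g.toLinearMap = reflMap sq8 v := by
    intro v
    refine LinearMap.ext fun x => ?_
    show g.symm (reflMap Q (g v) (g x)) = reflMap sq8 v x
    rw [reflMap_apply, reflMap_apply, map_sub, map_smul, g.symm_apply_apply, g.symm_apply_apply,
      hQg, show polar Q (g v) (g x) = c * polar sq8 v x from hpol v x, mul_inv]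
    congr 2
    rw [show c⁻¹ * (sq8 v)⁻¹ * (c * polar sq8 v x) = (c⁻¹ * c) * ((sq8 v)⁻¹ * polar sq8 v x) by ring,
      inv_mul_cancel₀ M.ne, one_mul]
  have hpm : ∀ A B : V →ₗ[ZMod 3] V, Pm A B →
      Pm (g.symm.toLinearMap ∘ₗ A ∘ₗ g.toLinearMap) (g.symm.toLinearMap ∘ₗ B ∘ₗ g.toLinearMap) := by
    rintro A B (rfl | rfl)
    · exact Pm.refl _
    · exact Or.inr (LinearMap.ext fun x => by simp)
  refine ⟨g, hQg, sq8_nondeg, by simp, one_ne_zero, fun w x => ?_, fun w z => ?_, fun w hw => ?_,
    fun w hw => ?_, fun v hv => ?_⟩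
  · refine mul_left_cancel₀ M.ne ?_
    show c * sq8 (g.symm (lin w (g x))) = c * sq8 x
    rw [hQs, M.iso, hQg]
  · refine (hpm _ _ (M.mul w z)).trans (Or.inl (LinearMap.ext fun x => ?_))
    show g.symm (lin w (lin z (g x))) = g.symm (lin w (g (g.symm (lin z (g x)))))
    rw [g.apply_symm_apply]
  · apply M.one
    rcases hw with h | h
    · refine Or.inl (LinearMap.ext fun x => ?_)
      have h' := LinearMap.congr_fun h (g.symm x)
      simp only [LinearMap.comp_apply, LinearEquiv.coe_coe, Module.End.one_apply,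
        g.apply_symm_apply] at h'
      exact g.symm.injective h'
    · refine Or.inr (LinearMap.ext fun x => ?_)
      have h' := LinearMap.congr_fun h (g.symm x)
      simp only [LinearMap.comp_apply, LinearEquiv.coe_coe, LinearMap.neg_apply, Module.End.one_apply,
        g.apply_symm_apply, ← map_neg] at h'
      exact g.symm.injective h'
  · obtain ⟨v, hv, hvl⟩ := M.vec w hw
    refine ⟨g.symm v, mul_left_cancel₀ M.ne (by rw [hQs, hv, mul_one]), ?_⟩
    rw [← hrefl, g.apply_symm_apply]
    exact hpm _ _ hvl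
  · obtain ⟨w, hw, hwl⟩ := M.mem (g v) (by rw [hQg, hv, mul_one])
    exact ⟨w, hw, (hrefl v) ▸ hpm _ _ hwl⟩

open Enum

theorem dot3_ofFn (u v : V8) : dot3 (List.ofFn u) (List.ofFn v) = ∑ i, u i * v i := by
  simp [dot3, List.ofFn_succ, Fin.sum_univ_eight]
  ring

theorem dot3_sq8 (v : V8) : dot3 (List.ofFn v) (List.ofFn v) = sq8 v := by
  rw [dot3_ofFn, sq8_apply]

theorem dot3_eq_zero {u v : V8} (h : polar sq8 u v = 0) : dot3 (List.ofFn u) (List.ofFn v) = 0 := by
  rw [sq8_polar] at h
  rw [dot3_ofFn]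
  exact (mul_eq_zero.1 h).resolve_left two_ne

/-- the `i`th coordinate vector -/
def e8 (i : Fin 8) : V8 := Pi.single i 1

theorem unit3_eq : ∀ i : Fin 8, unit3 i.val = List.ofFn (e8 i) := by
  unfold unit3 e8
  decide +kernel

theorem sq8_e8 (i : Fin 8) : sq8 (e8 i) = 1 := by
  rw [sq8_apply, e8, Finset.sum_eq_single i (fun j _ hj => by simp [hj]) (by simp)]
  simp

theorem e8_polar {i j : Fin 8} (h : i ≠ j) : polar sq8 (e8 i) (e8 j) = 0 := by
  rw [sq8_polar, Finset.sum_eq_zero fun k _ => ?_, mul_zero]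
  by_cases hk : k = i
  · subst hk; simp [e8, h]
  · simp [e8, hk]

/-- the free columns -/
def colList3 (J : V8 →ₗ[ZMod 3] V8) : List (ℕ × List (ZMod 3)) :=
  ([2, 3, 4, 5, 6, 7] : List (Fin 8)).map fun i => (i.val, List.ofFn (J (e8 i)))

theorem colList3_inj {J K : V8 →ₗ[ZMod 3] V8} (h0 : J (e8 0) = K (e8 0)) (h1 : J (e8 1) = K (e8 1))
    (h : colList3 J = colList3 K) : J = K := by
  have h' : ∀ i ∈ ([2, 3, 4, 5, 6, 7] : List (Fin 8)), J (e8 i) = K (e8 i) := fun i hi =>
    List.ofFn_injective (Prod.ext_iff.1 ((List.map_inj_left.1 h) i hi)).2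
  refine LinearMap.pi_ext' fun s => LinearMap.ext_ring ?_
  show J (e8 s) = K (e8 s)
  have hs : s = 0 ∨ s = 1 ∨ s ∈ ([2, 3, 4, 5, 6, 7] : List (Fin 8)) := by revert s; decide
  rcases hs with rfl | rfl | hs
  · exact h0
  · exact h1
  · exact h' s hs

theorem colList3_mem {J : V8 →ₗ[ZMod 3] V8} (hiso : ∀ v, sq8 (J v) = sq8 v)
    (hsk : ∀ v, polar sq8 v (J v) = 0) (h0 : J (e8 0) = e8 1) (h1 : J (e8 1) = -e8 0) :
    colList3 J ∈ sols compat3 6 (([2, 3, 4, 5, 6, 7] : List ℕ).map fun i => cand3 i ones3) := by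
  have hskew : ∀ x y, polar sq8 x (J y) + polar sq8 y (J x) = 0 := by
    intro x y
    have h := hsk (x + y)
    rw [map_add, polar_add_left, polar_add_right, polar_add_right, hsk, hsk, zero_add,
      add_zero] at h
    exact h
  have hpres : ∀ a b, polar sq8 (J a) (J b) = polar sq8 a b := fun a b => by
    simp only [polar, ← map_add, hiso]
  have hc : ∀ i j : Fin 8, i ≠ j →
      compat3 (i.val, List.ofFn (J (e8 i))) (j.val, List.ofFn (J (e8 j))) = true := by
    intro i j hij
    simp only [compat3, Bool.and_eq_true, beq_iff_eq]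
    refine ⟨dot3_eq_zero (by rw [hpres, e8_polar hij]), ?_⟩
    rw [unit3_eq, unit3_eq, dot3_ofFn, dot3_ofFn]
    have h := hskew (e8 i) (e8 j)
    rw [sq8_polar, sq8_polar, ← mul_add] at h
    exact (mul_eq_zero.1 h).resolve_left two_ne
  have hf0 : ((0, unit3 1) : ℕ × List (ZMod 3)) = ((0 : Fin 8).val, List.ofFn (J (e8 0))) := by
    rw [h0, ← unit3_eq]; rfl
  have hf1 : ((1, (unit3 0).map fun x => -x) : ℕ × List (ZMod 3))
      = ((1 : Fin 8).val, List.ofFn (J (e8 1))) := by
    rw [h1, show unit3 0 = List.ofFn (e8 0) from unit3_eq 0, List.map_ofFn]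
    rfl
  refine mem_sols (by simp [colList3]) ?_ ?_
  · have e : ([2, 3, 4, 5, 6, 7] : List ℕ) = ([2, 3, 4, 5, 6, 7] : List (Fin 8)).map (·.val) := rfl
    rw [e, List.map_map]
    refine List.forall₂_map_left_iff.2 (List.forall₂_map_right_iff.2 (List.forall₂_same.2 fun i hi => ?_))
    have hi01 : (0 : Fin 8) ≠ i ∧ (1 : Fin 8) ≠ i := by revert i; decide
    refine List.mem_map.2 ⟨List.ofFn (J (e8 i)), List.mem_filter.2 ⟨?_, ?_⟩, rfl⟩
    · refine List.mem_filter.2 ⟨?_, ?_⟩
      · have := mem_all3 (List.ofFn (J (e8 i)))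
        simpa using this
      · rw [beq_iff_eq, dot3_sq8, hiso, sq8_e8]
    · simp only [Bool.and_eq_true, beq_iff_eq, fixed3, List.all_cons, List.all_nil, Bool.and_true]
      refine ⟨?_, ?_, ?_⟩
      · rw [unit3_eq]; exact dot3_eq_zero (hsk _)
      · rw [hf0]; exact hc 0 i hi01.1
      · rw [hf1]; exact hc 1 i hi01.2
  · refine List.pairwise_map.2 ?_
    have hnd : ([2, 3, 4, 5, 6, 7] : List (Fin 8)).Pairwise (· ≠ ·) := by decide
    exact hnd.imp fun {i j} h => hc i j h

variable {lin : X → (V8 →ₗ[ZMod 3] V8)}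

/-- At most 1080 such involutions exchange a given commuting pair. -/
theorem Model.pair_bound (M : Model E sq8 1 lin) {p q : X} (hp : p ∈ E) (hq : q ∈ E) (hpq : p ≠ q)
    (hcm : Commute p q) : {u : X | IsFpfInvol E u ∧ u * p * u⁻¹ = q}.ncard ≤ 1080 := by
  classical
  obtain ⟨x, hx, hpx⟩ := M.vec p hp
  obtain ⟨y, hy, hqy⟩ := M.vec q hq
  have hxy := M.polar_of_commute hx hy hpx hqy hpq hcm
  have hli : ∀ a b : V8, sq8 a = 1 → sq8 b = 1 → polar sq8 a b = 0 →
      LinearIndependent (ZMod 3) ![a, b] := by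
    intro a b ha hb hab
    have ha0 : a ≠ 0 := fun h => by rw [h, QuadraticMap.map_zero] at ha; exact zero_ne_one ha
    rw [LinearIndependent.pair_iff' ha0]
    intro s hs
    rw [← hs, polar_smul_right, polar_self', ha, smul_eq_mul, mul_one, mul_eq_zero] at hab
    rw [hab.resolve_right two_ne, zero_smul] at hs
    rw [← hs, QuadraticMap.map_zero] at hb
    exact zero_ne_one hb
  obtain ⟨g, hg, hgv⟩ := witt_orth sq8_nondeg ![e8 0, e8 1] ![x, y]
    (hli _ _ (sq8_e8 0) (sq8_e8 1) (e8_polar (by decide))) (hli _ _ hx hy hxy)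
    (fun i => by fin_cases i <;> simp [sq8_e8, hx, hy])
    (fun i j => by
      fin_cases i <;> fin_cases j <;>
        simp [polar_self', sq8_e8, hx, hy, hxy, polar_comm _ y x, polar_comm _ (e8 1) (e8 0),
          e8_polar (show (0 : Fin 8) ≠ 1 by decide)])
  have hgx : g (e8 0) = x := hgv 0
  have hgy : g (e8 1) = y := hgv 1
  set S := {u : X | IsFpfInvol E u ∧ u * p * u⁻¹ = q}
  have hlift : ∀ u ∈ S, ∃ J : V8 →ₗ[ZMod 3] V8, (∀ v, sq8 (J v) = sq8 v) ∧
      (∀ v, polar sq8 v (J v) = 0) ∧ J (e8 0) = e8 1 ∧ J (e8 1) = -e8 0 ∧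
      Pm (lin u) (g.toLinearMap ∘ₗ J ∘ₗ g.symm.toLinearMap) := by
    rintro u ⟨hu, huv⟩
    obtain ⟨hJ, hsk⟩ := M.fix_invol hu
    have hmap : Pm (lin u x) y := by
      have e : u * p = q * u := by rw [← huv]; group
      have h1 : Pm (lin u * reflMap sq8 x) (reflMap sq8 y * lin u) := by
        refine (((Pm.refl _).mul hpx).symm.trans (M.mul u p).symm).trans ?_
        rw [e]
        exact (M.mul q u).trans (hqy.mul (Pm.refl _))
      rw [M.conj_refl] at h1
      have hinv : lin u * -lin u = 1 := LinearMap.ext fun v => by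
        show lin u (-(lin u v)) = v
        rw [map_neg, show lin u (lin u v) = -v from LinearMap.congr_fun hJ v, neg_neg]
      have h2 := h1.mul (Pm.refl (-lin u))
      rw [mul_assoc, mul_assoc, hinv, mul_one, mul_one] at h2
      exact reflMap_inj sq8_nondeg (by simp) one_ne_zero ((M.iso u x).trans hx) hy h2
    obtain ⟨s, hs, hsy⟩ : ∃ s : ZMod 3, s * s = 1 ∧ s • lin u x = y := by
      rcases hmap with h | h
      · exact ⟨1, one_mul 1, by rw [one_smul, h]⟩
      · exact ⟨-1, by decide, by rw [neg_one_smul, h, neg_neg]⟩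
    refine ⟨g.symm.toLinearMap ∘ₗ (s • lin u) ∘ₗ g.toLinearMap, fun v => ?_, fun v => ?_, ?_, ?_, ?_⟩
    · show sq8 (g.symm (s • lin u (g v))) = sq8 v
      rw [← hg (g.symm _), LinearEquiv.apply_symm_apply, Q_smul, hs, one_mul, M.iso, hg]
    · show polar sq8 v (g.symm (s • lin u (g v))) = 0
      rw [← orth_polar hg, LinearEquiv.apply_symm_apply, polar_smul_right, hsk, smul_zero]
    · show g.symm (s • lin u (g (e8 0))) = e8 1
      rw [hgx, hsy, ← hgy, LinearEquiv.symm_apply_apply]
    · show g.symm (s • lin u (g (e8 1))) = -e8 0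
      rw [hgy, ← hsy, map_smul (lin u), smul_smul, hs, one_smul,
        show lin u (lin u x) = -x from LinearMap.congr_fun hJ x, ← hgx, map_neg,
        LinearEquiv.symm_apply_apply]
    · rcases pm_one s hs with rfl | rfl
      · exact Or.inl (LinearMap.ext fun v => by simp)
      · exact Or.inr (LinearMap.ext fun v => by simp)
  choose! J hJi hJs hJ0 hJ1 hJl using hlift
  let Φ : X → List (ℕ × List (ZMod 3)) := fun u => colList3 (J u)
  have hsub : Φ '' S ⊆ ((sols compat3 6 (([2, 3, 4, 5, 6, 7] : List ℕ).map fun i =>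
      cand3 i ones3)).toFinset : Set (List (ℕ × List (ZMod 3)))) := by
    rintro _ ⟨u, hu, rfl⟩
    rw [Finset.mem_coe, List.mem_toFinset]
    exact colList3_mem (hJi u hu) (hJs u hu) (hJ0 u hu) (hJ1 u hu)
  have hinj : Set.InjOn Φ S := by
    intro u hu w hw h
    have e : J u = J w :=
      colList3_inj ((hJ0 u hu).trans (hJ0 w hw).symm) ((hJ1 u hu).trans (hJ1 w hw).symm) h
    exact M.inj ((hJl u hu).trans (e ▸ (hJl w hw).symm))
  calc S.ncard = (Φ '' S).ncard := (Set.ncard_image_of_injOn hinj).symm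
    _ ≤ _ := Set.ncard_le_ncard hsub (Finset.finite_toSet _)
    _ ≤ 1080 := by
        rw [Set.ncard_coe_finset]
        exact (List.toFinset_card_le _).trans count3

/-- the first non-zero entry -/
def lead : List (ZMod 3) → ZMod 3
  | [] => 0
  | a :: l => if a = 0 then lead l else a

theorem lead_neg (l : List (ZMod 3)) : lead (l.map fun x => -x) = -lead l := by
  induction l with
  | nil => simp [lead]
  | cons a l ih =>
    simp only [List.map_cons, lead, neg_eq_zero, ih]
    split_ifs <;> rfl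

theorem length_all3 : ∀ {n : ℕ} {l : List (ZMod 3)}, l ∈ all3 n → l.length = n := by
  intro n
  induction n with
  | zero => intro l hl; simp [all3] at hl; simp [hl]
  | succ n ih =>
    intro l hl
    simp only [all3, List.mem_flatMap, List.mem_map] at hl
    obtain ⟨a, -, p, hp, rfl⟩ := hl
    simp [ih hp]

theorem nodup_all3 : ∀ n, (all3 n).Nodup := by
  intro n
  induction n with
  | zero => simp [all3]
  | succ n ih =>
    simp only [all3, List.nodup_flatMap]
    refine ⟨fun a _ => ih.map (List.cons_injective), ?_⟩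
    refine List.Pairwise.imp (R := (· ≠ ·)) (fun {a b} hab => ?_) (by decide)
    intro l hl hl'
    simp only [List.mem_map] at hl hl'
    obtain ⟨p, -, rfl⟩ := hl
    obtain ⟨q, -, h⟩ := hl'
    exact hab (List.cons.inj h).1.symm

theorem lead_count : (ones3.filter fun l => lead l == 1).length = 1080 := by decide +kernel

/-- There are at least 1080 members. -/
theorem Model.ncard_eight [Finite X] (M : Model E sq8 1 lin) : 1080 ≤ E.ncard := by
  classical
  set S := (ones3.filter fun l => lead l == 1).toFinset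
  have hcard : S.card = 1080 := by
    show (((ones3.filter fun l => lead l == 1)).toFinset).card = 1080
    have hnd : (ones3.filter fun l => lead l == 1).Nodup := ((nodup_all3 8).filter _).filter _
    rw [List.toFinset_card_of_nodup hnd, lead_count]
  have hmem : ∀ l ∈ S, ∃ v : V8, List.ofFn v = l ∧ sq8 v = 1 ∧ lead l = 1 := by
    intro l hl
    rw [List.mem_toFinset, List.mem_filter, ones3, List.mem_filter] at hl
    obtain ⟨⟨h1, h2⟩, h3⟩ := hl
    have hlen := length_all3 h1
    have e : List.ofFn (fun i => l.get (Fin.cast hlen.symm i)) = l := by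
      exact (List.ofFn_congr hlen l.get).symm.trans (List.ofFn_get l)
    exact ⟨_, e, by rw [← dot3_sq8, e]; exact beq_iff_eq.1 h2, beq_iff_eq.1 h3⟩
  choose v hv hvQ hvl using fun l : {l // l ∈ S} => hmem l.1 l.2
  choose w hw hwl using fun l : {l // l ∈ S} => M.mem (v l) (hvQ l)
  have hinj : Function.Injective fun l => (⟨w l, hw l⟩ : E) := fun l l' h => Subtype.ext (by
    have h' : w l = w l' := congrArg Subtype.val h
    have e : Pm (reflMap sq8 (v l)) (reflMap sq8 (v l')) := (hwl l).symm.trans (h' ▸ hwl l')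
    rcases reflMap_inj sq8_nondeg (by simp) one_ne_zero (hvQ l) (hvQ l') e with hl | hl
    · rw [← hv l, ← hv l', hl]
    · exfalso
      have h1 := hvl l
      rw [← hv l, hl, show List.ofFn (-v l') = (List.ofFn (v l')).map fun x => -x by
        rw [List.map_ofFn]; rfl, lead_neg, hv l', hvl l'] at h1
      revert h1; decide)
  have hle := Nat.card_le_card_of_injective _ hinj
  rw [Nat.card_coe_set_eq, Nat.card_eq_fintype_card, Fintype.card_coe, hcard] at hle
  exact hle

end Cfsg.Agent.Lib.FischerTriality11.OThree
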