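import Cfsg.Agent.Lib.ThreeTranspositions.ReflectThree
import Cfsg.Agent.Lib.FischerTriality11.OThreeEight
import Cfsg.Agent.Lib.FischerThm.Defs

/-!
# The projective reflection groups over three elements: model and derived group
-/
set_option autoImplicit false
set_option linter.unusedSectionVars false
set_option linter.style.haveILetI false

open Module QuadraticMap Cfsg
open Cfsg.Agent.Lib.Forms Cfsg.Agent.Lib.OrthOmega
open Cfsg.Agent.Lib.ThreeTranspositions.ReflectThree (toOrthHom range_toOrthHom preimage_classSet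
  mem_classSet toOrthHom_injective eg_le five_le)
open Cfsg.Agent.Lib.FischerThm (IsOrth3With)

namespace Cfsg.Agent.Lib.FischerTriality11.OThree

universe u

variable {n : ℕ} {Q : QuadraticForm (ZMod 3) (Fin n → ZMod 3)} {c : ZMod 3}

/-- the reflection group -/
abbrev RG (Q : QuadraticForm (ZMod 3) (Fin n → ZMod 3)) (c : ZMod 3) := ↥(reflectionSubgroup (⇑Q) c)

theorem center_scalar (hQ : Nondeg Q) (hn : 5 ≤ n) (hc : c ≠ 0) {z : RG Q c}
    (hz : z ∈ Subgroup.center (RG Q c)) :
    Pm (toOrthHom Q c z).1.toLinearMap 1 := by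
  have h5 := five_le hn
  have key : ∀ (e w : Fin n → ZMod 3) (hw : SPair Q e w),
      toOrthHom Q c z * rho hw = rho hw * toOrthHom Q c z := by
    intro e w hw
    have h1 : rho hw ∈ (toOrthHom Q c).range := by
      rw [range_toOrthHom]; exact eg_le hQ h5 hc (rho_mem hw)
    obtain ⟨y, hy⟩ := h1
    rw [← hy, ← map_mul, ← map_mul, (Subgroup.mem_center_iff.1 hz y).symm]
  rcases scalar_of_lines hQ (by omega) fun e he => line_of_central hQ (by omega) key he with h | h
  · exact Or.inl (LinearMap.ext h)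
  · exact Or.inr (LinearMap.ext fun x => by simpa using h x)

theorem center_of_scalar {z : RG Q c} (h : Pm (toOrthHom Q c z).1.toLinearMap 1) :
    z ∈ Subgroup.center (RG Q c) := by
  rw [Subgroup.mem_center_iff]
  intro y
  apply toOrthHom_injective Q c
  rw [map_mul, map_mul]
  refine Subtype.ext (LinearEquiv.ext fun x => ?_)
  show (toOrthHom Q c y).1 ((toOrthHom Q c z).1 x) = (toOrthHom Q c z).1 ((toOrthHom Q c y).1 x)
  rcases h with h | h
  · have hh : ∀ v, (toOrthHom Q c z).1 v = v := LinearMap.congr_fun h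
    rw [hh, hh]
  · have hh : ∀ v, (toOrthHom Q c z).1 v = -v := LinearMap.congr_fun h
    rw [hh, hh, map_neg]

variable {X : Type u} [Group X] {E : Set X}

theorem exists_lin (h : IsOrth3With E Q c) (hn : 5 ≤ n) :
    ∃ lin : X → ((Fin n → ZMod 3) →ₗ[ZMod 3] (Fin n → ZMod 3)), Model E Q c lin := by
  obtain ⟨hnd, hc, e, he⟩ := h
  have hQ : Nondeg Q := fun x hx => hnd.1 x hx
  rw [preimage_classSet] at he
  let rep : X → RG Q c := fun u => (e u).out
  have hrep : ∀ u, QuotientGroup.mk (rep u) = e u := fun u => Quotient.out_eq _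
  let lin : X → ((Fin n → ZMod 3) →ₗ[ZMod 3] (Fin n → ZMod 3)) := fun u =>
    (toOrthHom Q c (rep u)).1.toLinearMap
  have hsame : ∀ a b : RG Q c, (QuotientGroup.mk a : _ ⧸ Subgroup.center (RG Q c)) = QuotientGroup.mk b →
      Pm (toOrthHom Q c a).1.toLinearMap (toOrthHom Q c b).1.toLinearMap := by
    intro a b hab
    have h1 := center_scalar hQ hn hc (QuotientGroup.eq.1 hab)
    have h2 : (toOrthHom Q c b).1.toLinearMap
        = (toOrthHom Q c a).1.toLinearMap * (toOrthHom Q c (a⁻¹ * b)).1.toLinearMap := by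
      conv_lhs => rw [← mul_inv_cancel_left a b, map_mul]
      rfl
    rw [h2]
    refine Pm.symm ?_
    have h3 := (Pm.refl (toOrthHom Q c a).1.toLinearMap).mul h1
    rw [mul_one] at h3
    exact h3
  refine ⟨lin, hQ, by simpa using hn, hc, fun u v => (toOrthHom Q c (rep u)).2 v, fun u w => ?_,
    fun u hu => ?_, fun w hw => ?_, fun v hv => ?_⟩
  · refine (hsame (rep (u * w)) (rep u * rep w) ?_).trans (Or.inl ?_)
    · rw [QuotientGroup.mk_mul, hrep, hrep, hrep, map_mul]
    · rw [map_mul]; rfl
  · apply e.injective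
    rw [← hrep, map_one, QuotientGroup.eq_one_iff]
    exact center_of_scalar hu
  · have hw' : e w ∈ e '' E := ⟨w, hw, rfl⟩
    rw [he] at hw'
    obtain ⟨r, hr, hrw⟩ := hw'
    obtain ⟨v, hv, hrv⟩ := mem_classSet.1 hr
    refine ⟨v, hv, (hsame (rep w) r (by rw [hrep, hrw])).trans (Or.inl ?_)⟩
    rw [hrv]; rfl
  · obtain ⟨r, hr⟩ : orefl Q v ∈ (toOrthHom Q c).range := by
      rw [range_toOrthHom]; exact Subgroup.subset_closure (mem_classSet.2 ⟨v, hv, rfl⟩)
    have hmem : (QuotientGroup.mk r : _ ⧸ Subgroup.center (RG Q c)) ∈ e '' E := by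
      rw [he]
      exact ⟨r, mem_classSet.2 ⟨v, hv, hr⟩, rfl⟩
    obtain ⟨w, hw, hwr⟩ := hmem
    refine ⟨w, hw, (hsame (rep w) r (by rw [hrep, hwr])).trans (Or.inl ?_)⟩
    rw [hr]; rfl

theorem map_center_of_equiv {A B : Type*} [Group A] [Group B] (f : A ≃* B) :
    (Subgroup.center A).map (f : A →* B) = Subgroup.center B := by
  ext b
  simp only [Subgroup.mem_map, Subgroup.mem_center_iff, MonoidHom.coe_coe]
  constructor
  · rintro ⟨a, ha, rfl⟩ y
    rw [← f.apply_symm_apply y, ← map_mul, ← map_mul, ha]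
  · intro hb
    exact ⟨f.symm b, fun y => f.injective (by simp [hb]), f.apply_symm_apply b⟩

/-- The equivalence of the hyperbolic form with the sum of eight squares. -/
theorem sq8_equiv_plus : (qPlus (F := ZMod 3) 4).Equivalent sq8 := by
  let T : (Fin 4 ⊕ Fin 4 → ZMod 3) →ₗ[ZMod 3] V8 :=
    { toFun := fun v => ![v (.inl 0) + v (.inr 0), v (.inl 1) + v (.inr 1),
        v (.inl 2) + v (.inr 2), v (.inl 3) + v (.inr 3),
        (v (.inl 0) - v (.inr 0)) + (v (.inl 1) - v (.inr 1)),
        (v (.inl 0) - v (.inr 0)) - (v (.inl 1) - v (.inr 1)),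
        (v (.inl 2) - v (.inr 2)) + (v (.inl 3) - v (.inr 3)),
        (v (.inl 2) - v (.inr 2)) - (v (.inl 3) - v (.inr 3))]
      map_add' := fun x y => by funext i; fin_cases i <;> simp <;> ring
      map_smul' := fun a x => by funext i; fin_cases i <;> simp <;> ring }
  have hT : ∀ v, sq8 (T v) = qPlus 4 v := by
    intro v
    have h3 : (3 : ZMod 3) = 0 := by decide
    rw [sq8_apply, qPlus_apply, Fin.sum_univ_eight, Fin.sum_univ_four]
    simp only [T, LinearMap.coe_mk, AddHom.coe_mk, Matrix.cons_val_zero, Matrix.cons_val_one,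
      Matrix.cons_val]
    linear_combination (v (.inl 0) ^ 2 + v (.inr 0) ^ 2 - v (.inl 0) * v (.inr 0)
      + v (.inl 1) ^ 2 + v (.inr 1) ^ 2 - v (.inl 1) * v (.inr 1)
      + v (.inl 2) ^ 2 + v (.inr 2) ^ 2 - v (.inl 2) * v (.inr 2)
      + v (.inl 3) ^ 2 + v (.inr 3) ^ 2 - v (.inl 3) * v (.inr 3)) * h3
  have hinj : Function.Injective T := by
    intro a b h
    refine sub_eq_zero.1 (qPlus_nondeg 4 _ fun z => ?_)
    rw [← polar_map T hT, map_sub, h, sub_self, polar_zero_left]
  exact ⟨{ LinearEquiv.ofBijective T ⟨hinj,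
      (LinearMap.injective_iff_surjective_of_finrank_eq_finrank (by simp)).1 hinj⟩ with
    map_app' := hT }⟩

/-- The derived group in dimension eight. -/
theorem commutator_iso (h : IsOrth3With E Q c) (hn : n = 8) {g : V8 ≃ₗ[ZMod 3] (Fin n → ZMod 3)}
    (hg : ∀ a, Q (g a) = c * sq8 a) :
    Nonempty (commutator X ≃* POmega (ZMod 3) (quadFormPlus 4 (ZMod 3))) := by
  obtain ⟨hnd, hc, e, -⟩ := h
  have hQ : Nondeg Q := fun x hx => hnd.1 x hx
  have h5 : 5 ≤ n := by omega
  have hfr := five_le h5
  set φ := toOrthHom Q c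
  set K := commutator (RG Q c)
  -- the derived group of the reflection group is the derived group of the isometries of the plus form
  have hmap : K.map φ = commutator (orth Q) := by
    rw [commutator_eq_EG hQ hfr, show K = commutator (RG Q c) from rfl,
      ThreeTranspositions.ReflectThree.commutator_eq hQ hfr hc φ (toOrthHom_injective Q c)
        (range_toOrthHom Q c),
      Subgroup.map_comap_eq, range_toOrthHom]
    exact inf_eq_right.2 (eg_le hQ hfr hc)
  let i1 : K ≃* commutator (orth Q) :=
    (Subgroup.equivMapOfInjective K φ (toOrthHom_injective Q c)).trans (MulEquiv.subgroupCongr hmap)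
  obtain ⟨T⟩ := sq8_equiv_plus
  let G : (c • sq8).IsometryEquiv Q :=
    { g with
      map_app' := fun a => by
        rw [FunLike.coe_smul, Pi.smul_apply, smul_eq_mul]
        exact hg a }
  let i2 : orth Q ≃* orth (qPlus (F := ZMod 3) 4) :=
    ((orthCongr G).symm.trans (MulEquiv.subgroupCongr (orth_smul sq8 hc))).trans (orthCongr T).symm
  let i3 : orth Q ≃* ↥(isometryGroup (ZMod 3) (quadFormPlus 4 (ZMod 3))) :=
    i2.trans (isoOrth (qPlus 4) (qPlus_eq 4)).symm
  let i4 : commutator (orth Q) ≃* Omega (ZMod 3) (quadFormPlus 4 (ZMod 3)) :=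
    (Subgroup.equivMapOfInjective _ i3.toMonoidHom i3.injective).trans
      (MulEquiv.subgroupCongr (map_commutator_equiv i3))
  let i5 : K ⧸ Subgroup.center K ≃* POmega (ZMod 3) (quadFormPlus 4 (ZMod 3)) :=
    QuotientGroup.congr _ _ (i1.trans i4) (map_center_of_equiv _)
  -- the derived group of the projective group
  let π : K →* X := e.symm.toMonoidHom.comp ((QuotientGroup.mk' (Subgroup.center (RG Q c))).comp K.subtype)
  have hker : π.ker = Subgroup.center K := by
    ext k
    constructor
    · intro hk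
      have h1 : (QuotientGroup.mk (k : RG Q c) : _ ⧸ Subgroup.center (RG Q c)) = 1 :=
        e.symm.injective (by rw [map_one]; exact MonoidHom.mem_ker.1 hk)
      rw [QuotientGroup.eq_one_iff] at h1
      exact Subgroup.mem_center_iff.2 fun y => Subtype.ext (Subgroup.mem_center_iff.1 h1 y)
    · intro hk
      have h1 : (k : RG Q c) ∈ Subgroup.center (RG Q c) :=
        ThreeTranspositions.ReflectThree.centralizer_le hQ hfr hc φ (toOrthHom_injective Q c)
          (range_toOrthHom Q c) (Subgroup.mem_centralizer_iff.2 fun y hy =>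
            congrArg Subtype.val (Subgroup.mem_center_iff.1 hk ⟨y, hy⟩))
      rw [MonoidHom.mem_ker]
      show e.symm (QuotientGroup.mk (k : RG Q c)) = 1
      rw [(QuotientGroup.eq_one_iff _).2 h1, map_one]
  have hrange : π.range = commutator X := by
    rw [← map_commutator_equiv e.symm, MonoidHom.range_comp, MonoidHom.range_comp, Subgroup.range_subtype]
    congr 1
    rw [show K = commutator (RG Q c) from rfl, commutator_def, commutator_def, Subgroup.map_commutator,
      Subgroup.map_top_of_surjective _ (QuotientGroup.mk'_surjective _)]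
  exact ⟨((MulEquiv.subgroupCongr hrange.symm).trans
    ((QuotientGroup.quotientKerEquivRange π).symm.trans
      (QuotientGroup.quotientMulEquivOfEq hker))).trans i5⟩

end Cfsg.Agent.Lib.FischerTriality11.OThree
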