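import Cfsg.Agent.Lib.FischerTriality11.OTwo
import Cfsg.Agent.Lib.FischerTriality11.Enum
import Cfsg.Agent.Lib.Forms.Basis

/-!
# The orthogonal classes over two elements

The minus forms and all plus forms except in dimension eight are excluded; in dimension eight an
ordered commuting pair is exchanged by at most 140 involutions centralising no reflection.
-/
set_option autoImplicit false
set_option linter.unusedSectionVars false

open Module QuadraticMap Cfsg
open Cfsg.Agent.Lib.Forms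
open Cfsg.Agent.Lib.FischerThm (IsOPlusClass IsOMinusClass)

namespace Cfsg.Agent.Lib.FischerTriality11.OTwo

universe u

variable {X : Type u} [Group X] {E : Set X}

/-- A matrix model gives an abstract one. -/
theorem exists_model {ι : Type} [Fintype ι] [DecidableEq ι] {Q : QuadraticForm (ZMod 2) (ι → ZMod 2)}
    {f : (ι → ZMod 2) → ZMod 2} (hf : ∀ v, f v = Q v) (hQ : Nondeg Q)
    (h : ∃ e : X ≃* ↥(isometryGroup (ZMod 2) f), e '' E = {g : ↥(isometryGroup (ZMod 2) f) |
      (((g : GL ι (ZMod 2)) : Matrix ι ι (ZMod 2)) - 1).rank = 1}) :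
    ∃ e : X ≃* orth Q, Model E Q e := by
  obtain ⟨e, he⟩ := h
  refine ⟨e.trans (isoOrth Q hf), hQ, ?_⟩
  have hrk : ∀ g : ↥(isometryGroup (ZMod 2) f),
      (((g : GL ι (ZMod 2)) : Matrix ι ι (ZMod 2)) - 1).rank = 1 ↔ isoOrth Q hf g ∈ reflSet Q := by
    intro g
    have e' : (((g : GL ι (ZMod 2)) : Matrix ι ι (ZMod 2)) - 1).mulVecLin = dev (isoOrth Q hf g).1 :=
      LinearMap.ext fun x => by
        rw [Matrix.mulVecLin_apply, Matrix.sub_mulVec, Matrix.one_mulVec, dev_apply, isoOrth_apply]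
    rw [Matrix.rank, e']
    refine ⟨fun h => TwoTranspositions.eq_orefl hQ h1 _ h, ?_⟩
    rintro ⟨v, hv, hg⟩
    rw [hg]
    exact TwoTranspositions.finrank_dev_orefl hQ hv
  ext y
  constructor
  · rintro ⟨w, hw, rfl⟩
    have h' : e w ∈ e '' E := ⟨w, hw, rfl⟩
    rw [he] at h'
    exact (hrk _).1 h'
  · intro hy
    obtain ⟨g, rfl⟩ := (isoOrth Q hf).surjective y
    have h' : g ∈ e '' E := he ▸ (hrk g).2 hy
    obtain ⟨w, hw, rfl⟩ := h'
    exact ⟨w, hw, rfl⟩

theorem bin_aniso : ∀ z₁ z₂ : ZMod 2, z₁ ^ 2 + 1 * z₁ * z₂ + 1 * z₂ ^ 2 = 0 → z₁ = 0 ∧ z₂ = 0 := by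
  decide

theorem qBin_aniso : (qBin (1 : ZMod 2) 1).Anisotropic := fun z hz => by
  rw [qBin_apply] at hz
  obtain ⟨h0, h0'⟩ := bin_aniso _ _ hz
  funext i
  fin_cases i
  · exact h0
  · exact h0'

/-- Every involution centralises a reflection of a minus form. -/
theorem exists_commute_minus {m : ℕ} (h : IsOMinusClass E m) {u : X} (hu : u * u = 1) :
    ∃ w ∈ E, Commute u w := by
  obtain ⟨e, M⟩ := exists_model (fun v => (qMinus_apply m 1 1 v).symm) (qMinus_nondeg m bin_aniso) h
  by_contra hcon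
  push Not at hcon
  have hv : qMinus m (1 : ZMod 2) 1 (Sum.elim 0 ![1, 0]) = 1 := by
    simp [qMinus_apply, quadFormMinus]
  obtain ⟨w, hw, -⟩ := M.exists_mem hv
  have hu1 : u ≠ 1 := fun h1 => hcon w hw (h1 ▸ Commute.one_left w)
  obtain ⟨W, hW, hdim⟩ := M.exists_singular_half (u := u) ⟨hu, hu1, hcon⟩
  obtain ⟨f⟩ := qMinus_equiv m (1 : ZMod 2) 1
  have hle := Forms.witt_index_le (qBin_nondeg bin_aniso) qBin_aniso m (W.map f.toLinearEquiv.toLinearMap)
    (by
      rintro _ ⟨x, hx, rfl⟩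
      rw [← hW x hx]
      exact f.map_app x)
  rw [(LinearEquiv.finrank_map_eq _ _)] at hle
  rw [Module.finrank_fintype_fun_eq_card] at hdim
  simp only [Fintype.card_sum, Fintype.card_fin] at hdim
  omega

section Plus

variable {m : ℕ}

/-- the member of the star: pair `k`, side `b` -/
def starVec (m k : ℕ) (b : Bool) : Fin m ⊕ Fin m → ZMod 2 :=
  Sum.elim
    (fun j => if j.val < k then 1 else if j.val = k then (if b then 1 else 0)
      else if j.val + 1 = m then ((k + 1 : ℕ) : ZMod 2) else 0)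
    (fun j => if j.val < k then 1 else if j.val = k then (if b then 0 else 1)
      else if j.val + 1 = m then ((k + 1 : ℕ) : ZMod 2) else 0)

theorem q_starVec {k : ℕ} (hk : k + 1 < m) (b : Bool) :
    qPlus (F := ZMod 2) m (starVec m k b) = 1 := by
  rw [qPlus_apply]
  have hterm : ∀ j : Fin m, starVec m k b (.inl j) * starVec m k b (.inr j) =
      (if j.val < k then 1 else 0) + (if j.val + 1 = m then ((k + 1 : ℕ) : ZMod 2) else 0) := by
    intro j
    have hsq : ∀ a : ZMod 2, a * a = a := by decide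
    simp only [starVec, Sum.elim_inl, Sum.elim_inr]
    split_ifs <;> first | (exfalso; omega) | simp [hsq]
  rw [Finset.sum_congr rfl fun j _ => hterm j, Finset.sum_add_distrib, Finset.sum_boole]
  have hlast : (∑ j : Fin m, if j.val + 1 = m then ((k + 1 : ℕ) : ZMod 2) else 0)
      = ((k + 1 : ℕ) : ZMod 2) := by
    rw [Finset.sum_eq_single ⟨m - 1, by omega⟩]
    · rw [if_pos (by simp only; omega)]
    · intro j _ hj
      rw [if_neg fun h => hj (Fin.ext (by simp only; omega))]
    · simp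
  have hcard : (Finset.univ.filter fun j : Fin m => j.val < k).card = k := by
    rw [show (Finset.univ.filter fun j : Fin m => j.val < k) = Finset.Iio (⟨k, by omega⟩ : Fin m) by
      ext j; simp [Fin.lt_def]]
    simp
  rw [hlast, hcard]
  push_cast
  rw [← add_assoc, (show ∀ a : ZMod 2, a + a = 0 by decide) (k : ZMod 2), zero_add]

theorem polar_starVec {k l : ℕ} {b c : Bool} (hl : l + 1 < m) (hkl : k ≤ l)
    (hne : k ≠ l ∨ b ≠ c) : polar (qPlus (F := ZMod 2) m) (starVec m k b) (starVec m l c) = 1 := by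
  rw [qPlus_polar, Finset.sum_eq_single (⟨k, by omega⟩ : Fin m)]
  · simp only [starVec, Sum.elim_inl, Sum.elim_inr, lt_irrefl, if_false, if_true]
    rcases Nat.lt_or_ge k l with hlt | hge
    · cases b <;> simp [hlt]
    · obtain rfl : k = l := le_antisymm hkl hge
      have hbc := hne.resolve_left (fun h => h rfl)
      cases b <;> cases c <;> simp at hbc ⊢
  · intro j _ hj
    have hj' : j.val ≠ k := fun h => hj (Fin.ext h)
    have key : ∀ a d : ZMod 2, a * d + d * a = 0 := by decide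
    simp only [starVec, Sum.elim_inl, Sum.elim_inr]
    split_ifs <;> first | (exfalso; omega) | exact key _ _ | simp
  · simp

theorem two_pow_gt : ∀ m, 6 ≤ m → 2 * m < 2 ^ (m - 2) := by
  intro m hm
  induction m, hm using Nat.le_induction with
  | base => norm_num
  | succ m hm ih =>
    rw [show m + 1 - 2 = (m - 2) + 1 by omega, pow_succ]
    omega

theorem six_no_star : ∃ x : Fin 6 → (Fin 3 ⊕ Fin 3 → ZMod 2),
    (∀ i, qPlus 3 (x i) = 1) ∧ ∀ i j, i ≠ j → polar (qPlus (F := ZMod 2) 3) (x i) (x j) = 1 := by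
  let dec : ℕ → (Fin 3 ⊕ Fin 3 → ZMod 2) := fun p =>
    Sum.elim (fun i => if p.testBit i then 1 else 0) (fun i => if p.testBit (i + 3) then 1 else 0)
  refine ⟨fun i => dec (![9, 19, 30, 39, 44, 53] i), ?_, ?_⟩
  · intro i
    rw [qPlus_apply]
    revert i
    decide
  · intro i j
    rw [qPlus_polar]
    revert i j
    decide

theorem plus_four {ψ : X → X → X} (T : Twin E ψ) (hm : 3 ≤ m) (h : IsOPlusClass E m) : m = 4 := by
  obtain ⟨e, M⟩ := exists_model (fun v => qPlus_eq m v) (qPlus_nondeg m) h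
  by_contra hne
  rcases Nat.lt_or_ge m 4 with hlt | hge
  · obtain rfl : m = 3 := by omega
    obtain ⟨x, hx, hxx⟩ := six_no_star
    have := M.star_dvd T (n := 4) x hx hxx
    rw [Module.finrank_fintype_fun_eq_card] at this
    revert this; simp
  have hm5 : 5 ≤ m := by omega
  let x : Fin (2 * (m - 2) + 2) → (Fin m ⊕ Fin m → ZMod 2) :=
    fun p => starVec m (p.val / 2) (decide (p.val % 2 = 0))
  have hx : ∀ p, qPlus (F := ZMod 2) m (x p) = 1 := fun p => q_starVec (by omega) _
  have hxx : ∀ p q, p ≠ q → polar (qPlus (F := ZMod 2) m) (x p) (x q) = 1 := by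
    intro p q hpq
    have key : ∀ p q : Fin (2 * (m - 2) + 2), p ≠ q → p.val / 2 ≤ q.val / 2 →
        polar (qPlus (F := ZMod 2) m) (x p) (x q) = 1 := fun p q hpq hle =>
      polar_starVec (by omega) hle (by
        by_contra hcon
        push Not at hcon
        obtain ⟨h0, h1⟩ := hcon
        simp only [decide_eq_decide] at h1
        exact hpq (Fin.ext (by omega)))
    rcases le_total (p.val / 2) (q.val / 2) with hle | hle
    · exact key p q hpq hle
    · rw [polar_comm]; exact key q p hpq.symm hle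
  have hd := M.star_dvd T x hx hxx
  rw [Module.finrank_fintype_fun_eq_card] at hd
  simp only [Fintype.card_sum, Fintype.card_fin, ← two_mul,
    Nat.mul_div_cancel_left _ (show 0 < 2 by norm_num)] at hd
  rcases Nat.lt_or_ge m 6 with h6 | h6
  · obtain rfl : m = 5 := by omega
    revert hd; norm_num
  · have := Nat.le_of_dvd (by omega) hd
    have := two_pow_gt m h6
    omega

end Plus

/-! ### Dimension eight -/

section Eight

open Enum

/-- a boolean as a scalar -/
def sc (b : Bool) : ZMod 2 := if b then 1 else 0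

theorem sc_xor : ∀ a b, sc (a ^^ b) = sc a + sc b := by decide
theorem sc_and : ∀ a b, sc (a && b) = sc a * sc b := by decide
theorem sc_inj : ∀ {a b}, sc a = sc b → a = b := by decide

/-- decoding -/
def dec (p : ℕ) : Fin 4 ⊕ Fin 4 → ZMod 2 :=
  Sum.elim (fun i => sc (Enum.bit p i)) (fun i => sc (Enum.bit p (i + 4)))

theorem qPlus_dec (p : ℕ) : qPlus 4 (dec p) = sc (q2 p) := by
  simp only [qPlus_apply, Fin.sum_univ_four, q2, sc_xor, sc_and, dec, Sum.elim_inl, Sum.elim_inr]
  simp [add_assoc]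

theorem polar_dec (p q : ℕ) : polar (qPlus (F := ZMod 2) 4) (dec p) (dec q) = sc (b2 p q) := by
  simp only [qPlus_polar, Fin.sum_univ_four, b2, term2, sc_xor, sc_and, dec, Sum.elim_inl,
    Sum.elim_inr]
  simp [add_assoc]

theorem dec_xor (p q : ℕ) : dec (p ^^^ q) = dec p + dec q := by
  funext s
  rcases s with i | i <;> simp [dec, Enum.bit, Nat.testBit_xor, sc_xor]

theorem dec_inj {p q : ℕ} (hp : p < 256) (hq : q < 256) (h : dec p = dec q) : p = q := by
  refine Nat.eq_of_testBit_eq fun i => ?_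
  rcases Nat.lt_or_ge i 8 with hi | hi
  · rcases Nat.lt_or_ge i 4 with h4 | h4
    · exact sc_inj (congrFun h (.inl ⟨i, h4⟩))
    · have := sc_inj (congrFun h (.inr ⟨i - 4, by omega⟩))
      simp only [Enum.bit, show i - 4 + 4 = i by omega] at this
      exact this
  · rw [Nat.testBit_lt_two_pow, Nat.testBit_lt_two_pow] <;>
      exact lt_of_lt_of_le (by assumption) (Nat.pow_le_pow_right (by norm_num) hi)

theorem exists_code (v : Fin 4 ⊕ Fin 4 → ZMod 2) : ∃ p, p < 256 ∧ dec p = v := by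
  let f : Fin 256 → (Fin 4 ⊕ Fin 4 → ZMod 2) := fun p => dec p.val
  have hinj : Function.Injective f := fun p q h => Fin.ext (dec_inj p.isLt q.isLt h)
  have hb := (Fintype.bijective_iff_injective_and_card f).2 ⟨hinj, by simp⟩
  obtain ⟨p, hp⟩ := hb.2 v
  exact ⟨p.val, p.isLt, hp⟩

/-- the code of a vector -/
noncomputable def code (v : Fin 4 ⊕ Fin 4 → ZMod 2) : ℕ := (exists_code v).choose

theorem code_lt (v : Fin 4 ⊕ Fin 4 → ZMod 2) : code v < 256 := (exists_code v).choose_spec.1

theorem dec_code (v : Fin 4 ⊕ Fin 4 → ZMod 2) : dec (code v) = v := (exists_code v).choose_spec.2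

/-- the first standard vector of norm one -/
def x₀ : Fin 4 ⊕ Fin 4 → ZMod 2 := dec 17

/-- the second standard vector of norm one -/
def y₀ : Fin 4 ⊕ Fin 4 → ZMod 2 := dec 34

theorem witt_pair {x y : Fin 4 ⊕ Fin 4 → ZMod 2} (hx : qPlus 4 x = 1) (hy : qPlus 4 y = 1)
    (hxy : x ≠ y) (hp : polar (qPlus (F := ZMod 2) 4) x y = 0) :
    ∃ g ∈ orth (qPlus (F := ZMod 2) 4), g x₀ = x ∧ g y₀ = y := by
  have hx₀ : qPlus 4 x₀ = 1 := (qPlus_dec 17).trans (by decide)
  have hy₀ : qPlus 4 y₀ = 1 := (qPlus_dec 34).trans (by decide)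
  have hp₀ : polar (qPlus (F := ZMod 2) 4) x₀ y₀ = 0 := (polar_dec 17 34).trans (by decide)
  have hne₀ : x₀ ≠ y₀ := fun h => absurd (dec_inj (by norm_num) (by norm_num) h) (by norm_num)
  have li : ∀ a b : Fin 4 ⊕ Fin 4 → ZMod 2, qPlus 4 a = 1 → qPlus 4 b = 1 → a ≠ b →
      LinearIndependent (ZMod 2) ![a, b] := by
    intro a b ha hb hab
    have ha0 : a ≠ 0 := fun h => by rw [h, QuadraticMap.map_zero] at ha; exact zero_ne_one ha
    rw [LinearIndependent.pair_iff' ha0]
    intro c hc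
    rcases h01 c with rfl | rfl
    · rw [zero_smul] at hc
      rw [← hc, QuadraticMap.map_zero] at hb
      exact zero_ne_one hb
    · exact hab (by rw [← hc, one_smul])
  obtain ⟨g, hg, hgv⟩ := witt_orth (qPlus_nondeg 4) ![x₀, y₀] ![x, y] (li _ _ hx₀ hy₀ hne₀)
    (li _ _ hx hy hxy) (fun i => by fin_cases i <;> simp [hx₀, hy₀, hx, hy]) (fun i j => by
      fin_cases i <;> fin_cases j <;>
        simp [hp₀, hp, hx₀, hy₀, hx, hy, polar_comm _ y₀ x₀, polar_comm _ y x, polar_self'])
  exact ⟨g, hg, hgv 0, hgv 1⟩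

/-- the `i`th basis vector -/
def basisVec (i : ℕ) : Fin 4 ⊕ Fin 4 → ZMod 2 := dec (unit2 i)

/-- the columns of a map in the order of the search -/
noncomputable def colList (U : (Fin 4 ⊕ Fin 4 → ZMod 2) ≃ₗ[ZMod 2] (Fin 4 ⊕ Fin 4 → ZMod 2)) :
    List (ℕ × ℕ) := order2.map fun i => (i, code (U (basisVec i)))

theorem colList_inj {U W : (Fin 4 ⊕ Fin 4 → ZMod 2) ≃ₗ[ZMod 2] (Fin 4 ⊕ Fin 4 → ZMod 2)}
    (h : colList U = colList W) : U = W := by
  have h' : ∀ i ∈ order2, U (basisVec i) = W (basisVec i) := by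
    intro i hi
    have := (List.map_inj_left.1 h) i hi
    have h2 : code (U (basisVec i)) = code (W (basisVec i)) := (Prod.ext_iff.1 this).2
    rw [← dec_code (U (basisVec i)), h2, dec_code]
  have hb : ∀ s : Fin 4 ⊕ Fin 4, ∃ i ∈ order2, basisVec i = Pi.single s 1 := by
    unfold basisVec
    decide +kernel
  refine LinearEquiv.toLinearMap_injective (LinearMap.pi_ext' fun s => LinearMap.ext_ring ?_)
  obtain ⟨i, hi, hs⟩ := hb s
  show U (Pi.single s 1) = W (Pi.single s 1)
  rw [← hs]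
  exact h' i hi

theorem colList_mem {U : (Fin 4 ⊕ Fin 4 → ZMod 2) ≃ₗ[ZMod 2] (Fin 4 ⊕ Fin 4 → ZMod 2)}
    (hU : U ∈ orth (qPlus (F := ZMod 2) 4)) (hsq : ∀ v, U (U v) = v)
    (hz : ∀ v, polar (qPlus (F := ZMod 2) 4) v (U v) = 0) (hxy : U x₀ = y₀) :
    colList U ∈ sols compat2 8 (order2.map cand2) := by
  set c : ℕ → ℕ := fun i => code (U (basisVec i)) with hc
  have hdec : ∀ i, dec (c i) = U (dec (unit2 i)) := fun i => dec_code _
  have hadj : ∀ i j, b2 (unit2 i) (c j) = b2 (c i) (unit2 j) := fun i j => sc_inj (by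
    rw [← polar_dec, ← polar_dec, hdec, hdec, ← orth_polar hU (dec (unit2 i)), hsq])
  refine mem_sols (by simp [colList, order2]) ?_ ?_
  · refine List.forall₂_map_left_iff.2 (List.forall₂_map_right_iff.2 ?_)
    refine List.forall₂_same.2 fun i _ => ?_
    refine List.mem_map.2 ⟨c i, List.mem_filter.2 ⟨List.mem_range.2 (code_lt _), ?_⟩, rfl⟩
    simp only [Bool.and_eq_true, beq_iff_eq]
    refine ⟨sc_inj ?_, sc_inj ?_⟩
    · rw [← qPlus_dec, ← qPlus_dec, hdec]; exact hU _
    · rw [← polar_dec, hdec, hz]; rfl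
  · refine List.pairwise_map.2 (List.pairwise_of_forall fun i j => ?_)
    simp only [compat2, Bool.and_eq_true, beq_iff_eq, Bool.or_eq_true, Bool.not_eq_true']
    have hlink : ∀ p q r, r < 256 → U (dec (unit2 p) + dec (unit2 q)) = dec r → c p ^^^ c q = r := by
      intro p q r hr h
      refine dec_inj (Nat.xor_lt_two_pow (n := 8) (code_lt _) (code_lt _)) hr ?_
      rw [dec_xor, hdec, hdec, ← map_add, h]
    refine ⟨⟨⟨sc_inj ?_, hadj i j⟩, ?_⟩, ?_⟩
    · rw [← polar_dec, ← polar_dec, hdec, hdec, orth_polar hU]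
    · by_cases hh : i = 0 ∧ j = 4
      · obtain ⟨rfl, rfl⟩ := hh
        refine Or.inr (hlink 0 4 34 (by norm_num) ?_)
        rw [← dec_xor]; exact hxy
      · refine Or.inl ?_
        simpa [Bool.and_eq_false_iff] using fun h1 => fun h2 => hh ⟨h1, h2⟩
    · by_cases hh : i = 1 ∧ j = 5
      · obtain ⟨rfl, rfl⟩ := hh
        refine Or.inr (hlink 1 5 17 (by norm_num) ?_)
        rw [← dec_xor]
        have := congrArg U hxy
        rw [hsq] at this
        exact this.symm
      · refine Or.inl ?_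
        simpa [Bool.and_eq_false_iff] using fun h1 => fun h2 => hh ⟨h1, h2⟩

/-- At most 140 such involutions exchange a given commuting pair. -/
theorem pair_bound (h : IsOPlusClass E 4) {p q : X} (hp : p ∈ E) (hq : q ∈ E) (hpq : p ≠ q)
    (hc : Commute p q) : {u : X | IsFpfInvol E u ∧ u * p * u⁻¹ = q}.ncard ≤ 140 := by
  classical
  obtain ⟨e, M⟩ := exists_model (fun v => qPlus_eq 4 v) (qPlus_nondeg 4) h
  obtain ⟨x, hx, hpx⟩ := M.exists_vec hp
  obtain ⟨y, hy, hqy⟩ := M.exists_vec hq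
  have hxy : x ≠ y := fun e' => hpq (e.injective (by rw [hpx, hqy, e']))
  have hpol : polar (qPlus (F := ZMod 2) 4) x y = 0 := by
    rcases h01 (polar (qPlus (F := ZMod 2) 4) x y) with h0 | h0
    · exact h0
    · exact absurd hc (M.not_commute_of_polar hx hy hpx hqy h0)
  obtain ⟨g, hg, hgx, hgy⟩ := witt_pair hx hy hxy hpol
  let Φ : X → List (ℕ × ℕ) := fun u => colList ((g⁻¹ * (e u).1 * g))
  have hsub : Φ '' {u : X | IsFpfInvol E u ∧ u * p * u⁻¹ = q}
      ⊆ ((sols compat2 8 (order2.map cand2)).toFinset : Set (List (ℕ × ℕ))) := by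
    rintro _ ⟨u, ⟨hu, huv⟩, rfl⟩
    obtain ⟨hsq, hz, -⟩ := M.fix_invol hu
    rw [Finset.mem_coe, List.mem_toFinset]
    refine colList_mem ((orth (qPlus (F := ZMod 2) 4)).mul_mem
      ((orth (qPlus (F := ZMod 2) 4)).mul_mem (Subgroup.inv_mem _ hg) (e u).2) hg) (fun v => ?_)
      (fun v => ?_) ?_
    · show g.symm ((e u).1 (g (g.symm ((e u).1 (g v))))) = v
      rw [LinearEquiv.apply_symm_apply, hsq, LinearEquiv.symm_apply_apply]
    · show polar _ v (g.symm ((e u).1 (g v))) = 0
      rw [← orth_polar hg, LinearEquiv.apply_symm_apply]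
      exact hz _
    · show g.symm ((e u).1 (g x₀)) = y₀
      rw [hgx, LinearEquiv.symm_apply_eq, hgy]
      have h2 := TwoTranspositions.orefl_conj (e u) x
      rw [← hpx, ← map_inv, ← map_mul, ← map_mul, huv, hqy] at h2
      exact (orefl_inj M.nondeg hy (((e u).2 x).trans hx) h2).symm
  have hinj : Function.Injective Φ := fun u w h => e.injective (Subtype.ext (by
    have := colList_inj h
    simpa using this))
  calc _ = (Φ '' {u : X | IsFpfInvol E u ∧ u * p * u⁻¹ = q}).ncard :=
        (Set.ncard_image_of_injective _ hinj).symm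
    _ ≤ _ := Set.ncard_le_ncard hsub (Finset.finite_toSet _)
    _ ≤ 140 := by
        rw [Set.ncard_coe_finset]
        exact (List.toFinset_card_le _).trans count2

/-- There are at least 120 reflections. -/
theorem ncard_eight [Finite X] (h : IsOPlusClass E 4) : 120 ≤ E.ncard := by
  classical
  obtain ⟨e, M⟩ := exists_model (fun v => qPlus_eq 4 v) (qPlus_nondeg 4) h
  set S : Finset ℕ := ((List.range 256).filter q2).toFinset with hS
  have hmem : ∀ p ∈ S, p < 256 ∧ qPlus (F := ZMod 2) 4 (dec p) = 1 := by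
    intro p hp
    rw [hS, List.mem_toFinset, List.mem_filter, List.mem_range] at hp
    exact ⟨hp.1, by rw [qPlus_dec, hp.2]; rfl⟩
  choose w hw hwe using fun p : {p // p ∈ S} => M.exists_mem (hmem p.1 p.2).2
  have hinj : Function.Injective fun p => (⟨w p, hw p⟩ : E) := fun p q h => Subtype.ext (by
    have h' : e (w p) = e (w q) := congrArg e (congrArg Subtype.val h)
    rw [hwe, hwe] at h'
    exact dec_inj (hmem p.1 p.2).1 (hmem q.1 q.2).1
      (orefl_inj M.nondeg (hmem p.1 p.2).2 (hmem q.1 q.2).2 h'))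
  have hle := Nat.card_le_card_of_injective _ hinj
  rw [Nat.card_coe_set_eq, Nat.card_eq_fintype_card, Fintype.card_coe] at hle
  have hcard : S.card = 120 := by rw [hS]; decide +kernel
  omega

end Eight

end Cfsg.Agent.Lib.FischerTriality11.OTwo
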