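import Cfsg.Agent.Lib.FischerMTypes.OrderWidth
import Cfsg.Agent.Lib.FischerMTypes.M23Data
import Cfsg.Agent.Lib.FischerMTypes.StepGroup
import Cfsg.Agent.S5375

/-!
# In types M(22), M(23), M(24) the squared class size does not divide the group order
-/
set_option autoImplicit false

open Cfsg

namespace Cfsg.Agent.Lib.FischerTriality11

universe u

variable {X : Type u} [Group X] [Finite X] {E : Set X}

theorem not_sq_dvd_m22 (hD : IsThreeTranspositionGroup E) (hprim : IsPrimitiveUnderConj E)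
    (ht : IsOfTypeM22 X E) : ¬ E.ncard ^ 2 ∣ Nat.card X := by
  obtain ⟨F, _, _, ⟨S⟩⟩ := Lib.FischerMTypes.TraceCounts.exists_sys hD hprim ht
  rw [Lib.FischerMTypes.TraceSize.ncard_class S, Lib.FischerMTypes.OrderWidth.card_group S]
  norm_num

theorem not_sq_dvd_m23 (hD : IsThreeTranspositionGroup E) (hprim : IsPrimitiveUnderConj E)
    (ht : IsOfTypeM23 X E) : ¬ E.ncard ^ 2 ∣ Nat.card X := by
  obtain ⟨Q, iQ, iQ', E', F, iF, iF', S22, ⟨S⟩⟩ := Lib.FischerMTypes.M23Data.exists_step hD hprim ht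
  have P := Lib.FischerMTypes.M23Data.pinned hD hprim ht S22 S
  rw [S.card_group P, S.ncard_class P (F := 28160) (by norm_num),
    Lib.FischerMTypes.OrderWidth.card_group S22]
  norm_num

theorem not_sq_dvd_m24 (hD : IsThreeTranspositionGroup E) (hprim : IsPrimitiveUnderConj E)
    (ht : IsOfTypeM24 X E) : ¬ E.ncard ^ 2 ∣ Nat.card X := by
  obtain ⟨-, hN, hG, -, -⟩ := S5375.result hD hprim ht
  rw [hN, hG]
  norm_num

end Cfsg.Agent.Lib.FischerTriality11
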