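import Cfsg.Agent.Lib.FischerTriality11.Classes
import Cfsg.Agent.Lib.FischerTriality11.OTwoModels
import Cfsg.Agent.Lib.FischerTriality11.OThreeModel
import Cfsg.Agent.Lib.FischerTriality11.Sporadic
import Cfsg.Agent.Lib.FischerTriality11.Count

/-!
# The classes of the list that carry a twin

Only the reflections of `O⁺(8,2)` and of `PO⁺(8,3)` carry a twin; they carry at most two pairwise
apart twins.
-/
set_option autoImplicit false
set_option linter.style.haveILetI false

open Cfsg
open Cfsg.Agent.Lib.Forms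
open Cfsg.Agent.Lib.FischerThm (InList InSymp IsOPlusClass IsOrth3With Prim)

namespace Cfsg.Agent.Lib.FischerTriality11

universe u

variable {X : Type u} [Group X] {E : Set X} {ψ : X → X → X}

/-- One of the two eight-dimensional classes. -/
def Shape (E : Set X) : Prop :=
  IsOPlusClass E 4 ∨ ∃ (n : ℕ) (Q : QuadraticForm (ZMod 3) (Fin n → ZMod 3)) (c : ZMod 3),
    n = 8 ∧ IsOrth3With E Q c

theorem Twin.exists_invol (T : Twin E ψ) (hP : Prim E) : ∃ u, IsFpfInvol E u := by
  obtain ⟨p, hp, q, hq, hne, hc⟩ := hP.hw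
  exact ⟨_, T.isFpfInvol hp hq hne.symm hc⟩

theorem shape_of_twin [Finite X] (hP : Prim E) (hL : InList E) (T : Twin E ψ)
    (hdvd : E.ncard ^ 2 ∣ Nat.card X) : Shape E := by
  obtain ⟨u, hu⟩ := T.exists_invol hP
  have hno : (∃ w ∈ E, Commute u w) → False := fun ⟨w, hw, h⟩ => hu.2.2 w hw h
  rcases hL with hsymp | ⟨n, hn, h⟩ | ⟨n, hn, Q, c, h⟩ | h | h | h
  · rcases hsymp with ⟨n, hn, h⟩ | ⟨m, hm, h⟩ | ⟨m, hm, h⟩ | ⟨m, -, h⟩
    · exact (hno (exists_commute_sym hn h hu.1)).elim
    · exact (hno (exists_commute_sp hm h hu.1)).elim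
    · obtain rfl := OTwo.plus_four T hm h
      exact Or.inl h
    · exact (hno (OTwo.exists_commute_minus h hu.1)).elim
  · exact (hno (exists_commute_unitary hn h hu.1)).elim
  · obtain ⟨lin, M⟩ := OThree.exists_lin h hn
    have h8 := M.dim_eight T
    rw [Module.finrank_fintype_fun_eq_card, Fintype.card_fin] at h8
    exact Or.inr ⟨n, Q, c, h8, h⟩
  · exact absurd hdvd (not_sq_dvd_m22 hP.hD hP.hprim h)
  · exact absurd hdvd (not_sq_dvd_m23 hP.hD hP.hprim h)
  · exact absurd hdvd (not_sq_dvd_m24 hP.hD hP.hprim h)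

theorem Shape.no_three [Finite X] (h : Shape E) (hP : Prim E) (φ : Fin 3 → X → X → X)
    (T : ∀ i, Twin E (φ i)) (hap : ∀ i j, i ≠ j → Apart E (φ i) (φ j)) : False := by
  rcases h with h | ⟨n, Q, c, hn, h⟩
  · obtain ⟨e, M⟩ := OTwo.exists_model (fun v => qPlus_eq 4 v) (qPlus_nondeg 4) h
    have := OTwo.ncard_eight h
    exact Lib.FischerTriality11.no_three 140 hP.hD.2.1
      (fun p hp q hq hne hc => OTwo.pair_bound h hp hq hne hc) (by omega)
      (fun p hp q hq r hr s hs hne hne' hc hc' he => M.prod_inj hp hq hr hs hne hne' hc hc' he)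
      hP.hw φ T hap
  · obtain ⟨lin, M⟩ := OThree.exists_lin h (by omega)
    obtain ⟨u, hu⟩ := (T 0).exists_invol hP
    obtain ⟨g, -, M'⟩ := OThree.exists_std M
      (by rw [Module.finrank_fintype_fun_eq_card, Fintype.card_fin, hn]) hu
    have := M'.ncard_eight
    exact Lib.FischerTriality11.no_three 1080 hP.hD.2.1
      (fun p hp q hq hne hc => M'.pair_bound hp hq hne hc) (by omega)
      (fun p hp q hq r hr s hs hne hne' hc hc' he => M'.prod_inj hp hq hr hs hne hne' hc hc' he)
      hP.hw φ T hap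

theorem Shape.commutator_iso (h : Shape E) (hP : Prim E) (T : Twin E ψ) :
    Nonempty (commutator X ≃* Omega (ZMod 2) (quadFormPlus 4 (ZMod 2))) ∨
      Nonempty (commutator X ≃* POmega (ZMod 3) (quadFormPlus 4 (ZMod 3))) := by
  rcases h with ⟨e, -⟩ | ⟨n, Q, c, hn, h⟩
  · exact Or.inl ⟨(Subgroup.equivMapOfInjective _ e.toMonoidHom e.injective).trans
      (MulEquiv.subgroupCongr (map_commutator_equiv e))⟩
  · obtain ⟨lin, M⟩ := OThree.exists_lin h (by omega)
    obtain ⟨u, hu⟩ := T.exists_invol hP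
    obtain ⟨g, hg, -⟩ := OThree.exists_std M
      (by rw [Module.finrank_fintype_fun_eq_card, Fintype.card_fin, hn]) hu
    exact Or.inr (OThree.commutator_iso h hn hg)

end Cfsg.Agent.Lib.FischerTriality11
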