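import Mathlib

/-!
# Twins: the trace of another fibre on the group of one fibre

A twin of a class `E` in a group `X` attaches to each pair of members of `E` an element of `X`, the
product of the corresponding pair in another fibre.
-/
set_option autoImplicit false

namespace Cfsg.Agent.Lib.FischerTriality11

universe u

variable {X : Type u} [Group X]

/-- `ψ x y` behaves as the product of the copies of `x`, `y` in another fibre. -/
structure Twin (E : Set X) (ψ : X → X → X) : Prop where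
  mul : ∀ x ∈ E, ∀ y ∈ E, ∀ z ∈ E, ψ x y * ψ y z = ψ x z
  fpf : ∀ x ∈ E, ∀ y ∈ E, x ≠ y → ∀ w ∈ E, ¬ Commute (ψ x y) w
  sq : ∀ x ∈ E, ∀ y ∈ E, Commute x y → ψ x y * ψ x y = 1
  cube : ∀ x ∈ E, ∀ y ∈ E, ¬ Commute x y → ψ x y ^ 3 = 1
  shift : ∀ x ∈ E, ∀ y ∈ E, Commute x y → ∀ w ∈ E, Commute w (ψ x y * w * (ψ x y)⁻¹)
  inj : ∀ x ∈ E, ∀ y ∈ E, ∀ z ∈ E, ∀ w ∈ E, ψ x y = ψ z w → x * y = z * w

/-- Two twins share no product of distinct commuting members. -/
def Apart (E : Set X) (ψ φ : X → X → X) : Prop :=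
  ∀ x ∈ E, ∀ y ∈ E, ∀ z ∈ E, ∀ w ∈ E, x ≠ y → z ≠ w → Commute x y → Commute z w →
    ψ x y ≠ φ z w

/-- An involution centralising no member of `E`. -/
def IsFpfInvol (E : Set X) (u : X) : Prop := u * u = 1 ∧ u ≠ 1 ∧ ∀ w ∈ E, ¬ Commute u w

variable {E : Set X} {ψ : X → X → X}

theorem Twin.isFpfInvol (T : Twin E ψ) {x y : X} (hx : x ∈ E) (hy : y ∈ E) (hxy : x ≠ y)
    (hc : Commute x y) : IsFpfInvol E (ψ x y) :=
  ⟨T.sq x hx y hy hc, fun h => T.fpf x hx y hy hxy x hx (by rw [h]; exact Commute.one_left x),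
    T.fpf x hx y hy hxy⟩

theorem Twin.self (T : Twin E ψ) {x : X} (hx : x ∈ E) : ψ x x = 1 := by
  have := T.mul x hx x hx x hx
  exact mul_eq_left.1 this

end Cfsg.Agent.Lib.FischerTriality11
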