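import Cfsg.Agent.Lib.FischerTriality11.Fibres
import Cfsg.Agent.Lib.FischerTriality11.Twin

/-!
# The twins carried by the other fibres
-/
set_option autoImplicit false
set_option linter.style.haveILetI false

open Cfsg
open Cfsg.Agent.Lib.ThreeTranspositions

namespace Cfsg.Agent.Lib.FischerTriality11

universe u

variable {G : Type u} [Group G] {D : Set G} {L : Subgroup G} {a : G}

open scoped Classical in
/-- The product of a pair, moved by `g`, as an element of the group of the fibre. -/
noncomputable def twin (L : Subgroup G) (a g : G) (x y : ↥(grp L a)) : ↥(grp L a) :=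
  if h : g * ((x : G) * y) * g⁻¹ ∈ L then ⟨_, le_grp h⟩ else 1

namespace Setup

variable (S : Setup D L) (ha : a ∈ D) (g : G)
include S ha

theorem mul_mem_L {x y : G} (hx : x ∈ fib D L a) (hy : y ∈ fib D L a) : x * y ∈ L := by
  have h := L.mul_mem (L.inv_mem hx.2) hy.2
  rwa [show (a⁻¹ * x)⁻¹ * (a⁻¹ * y) = x⁻¹ * y by group, inv_eq S.tset hx.1] at h

theorem twin_coe {x y : ↥(grp L a)} (hx : x ∈ fibSet D L a) (hy : y ∈ fibSet D L a) :
    (twin L a g x y : G) = g * ((x : G) * y) * g⁻¹ := by
  have h := S.normal.conj_mem _ (S.mul_mem_L ha hx hy) g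
  rw [twin, dif_pos h]

theorem conj_mem_other {x : G} (hx : x ∈ fib D L a) :
    g * x * g⁻¹ ∈ fib D L (g * a * g⁻¹) := S.conj_mem_fib g hx

theorem twin_spec (hg : g * a * g⁻¹ ∉ fib D L a) :
    Twin (fibSet D L a) (twin L a g) := by
  have hS := S.tset
  have hb : g * a * g⁻¹ ∈ D := S.closed.2 g a ha
  have hout : ∀ {w : ↥(grp L a)}, w ∈ fibSet D L a → (w : G) ∉ fib D L (g * a * g⁻¹) := by
    intro w hw h
    apply hg
    rw [← fib_eq hw, fib_eq h]
    exact self_mem_fib hb
  refine ⟨fun x hx y hy z hz => ?_, fun x hx y hy hxy w hw hc => ?_, fun x hx y hy hc => ?_,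
    fun x hx y hy hn => ?_, fun x hx y hy hc w hw => ?_, fun x hx y hy z hz w hw h => ?_⟩
  · apply Subtype.ext
    rw [Subgroup.coe_mul, S.twin_coe ha g hx hy, S.twin_coe ha g hy hz, S.twin_coe ha g hx hz]
    calc g * ((x : G) * y) * g⁻¹ * (g * ((y : G) * z) * g⁻¹)
        = g * ((x : G) * ((y : G) * y) * z) * g⁻¹ := by group
      _ = _ := by rw [mul_self hS hy.1, mul_one]
  · have h := congrArg Subtype.val hc.eq
    rw [Subgroup.coe_mul, Subgroup.coe_mul, S.twin_coe ha g hx hy] at h
    refine S.not_commute_prod hb (S.conj_mem_fib g hx) (S.conj_mem_fib g hy)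
      (fun h' => hxy (Subtype.ext (conj_injective h'))) hw.1 (hout hw) ?_
    rw [show g * (x : G) * g⁻¹ * (g * (y : G) * g⁻¹) = g * ((x : G) * y) * g⁻¹ by group]
    exact h
  · apply Subtype.ext
    have hc' : (x : G) * y = y * x := congrArg Subtype.val hc.eq
    rw [Subgroup.coe_mul, S.twin_coe ha g hx hy, Subgroup.coe_one]
    calc g * ((x : G) * y) * g⁻¹ * (g * ((x : G) * y) * g⁻¹)
        = g * (((x : G) * y) ^ 2) * g⁻¹ := by rw [pow_two]; group
      _ = 1 := by rw [sq_eq_one_of_commute (mul_self hS hx.1) (mul_self hS hy.1) hc']; group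
  · apply Subtype.ext
    have hn' : ¬ Commute (x : G) y := fun h => hn (Subtype.ext h.eq)
    rw [SubgroupClass.coe_pow, S.twin_coe ha g hx hy, conj_pow, cube_eq_one hS hx.1 hy.1 hn',
      Subgroup.coe_one]
    group
  · have hw' : (w : G) ∈ D := hw.1
    have hp := S.conj_mem_fib g hx
    have hq := S.conj_mem_fib g hy
    have hcpq : Commute (g * (x : G) * g⁻¹) (g * (y : G) * g⁻¹) :=
      (Commute.conj_iff g).2 (congrArg Subtype.val hc.eq)
    have hnp : ¬ Commute (g * (x : G) * g⁻¹) (w : G) := fun h' => hout hw (by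
      rw [← fib_eq hp]; exact S.same_of_commute hp.1 hw' h')
    have hnq : ¬ Commute (g * (y : G) * g⁻¹) (w : G) := fun h' => hout hw (by
      rw [← fib_eq hq]; exact S.same_of_commute hq.1 hw' h')
    apply Subtype.ext
    simp only [Subgroup.coe_mul, Subgroup.coe_inv, S.twin_coe ha g hx hy]
    have e : g * ((x : G) * y) * g⁻¹ = (g * (x : G) * g⁻¹) * (g * (y : G) * g⁻¹) := by group
    rw [e]
    set p := g * (x : G) * g⁻¹ with hpdef
    set q := g * (y : G) * g⁻¹ with hqdef
    have e2 : p * q * (w : G) * (p * q)⁻¹ = p * (w * q * w) * p := by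
      rw [mul_inv_rev, inv_eq hS hp.1, inv_eq hS hq.1]
      calc p * q * (w : G) * (q * p) = p * (q * w * q) * p := by simp only [mul_assoc]
        _ = _ := by rw [braid hS hq.1 hw' hnq]
    rw [e2]
    have hmid : Commute ((w : G) * p * w) ((w : G) * q * w) := by
      have := (Commute.conj_iff (w : G)).2 hcpq
      rwa [inv_eq hS hw'] at this
    have h3 := (Commute.conj_iff p).2 hmid
    rw [inv_eq hS hp.1] at h3
    have e3 : p * ((w : G) * p * w) * p = w := by
      rw [← braid hS hp.1 hw' hnp]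
      simp only [mul_assoc, mul_self_assoc hS hp.1, mul_self hS hp.1, mul_one]
    rw [e3] at h3
    exact h3
  · have h' := congrArg Subtype.val h
    rw [S.twin_coe ha g hx hy, S.twin_coe ha g hz hw] at h'
    exact Subtype.ext (conj_injective h')

theorem twin_apart {g' : G} (hne : g' * a * g'⁻¹ ∉ fib D L (g * a * g⁻¹)) :
    Apart (fibSet D L a) (twin L a g) (twin L a g') := by
  intro x hx y hy z hz w hw hxy _ _ hzw h
  have hS := S.tset
  have hb : g * a * g⁻¹ ∈ D := S.closed.2 g a ha
  have h' := congrArg Subtype.val h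
  rw [S.twin_coe ha g hx hy, S.twin_coe ha g' hz hw] at h'
  have hr := S.conj_mem_fib g' hz
  refine S.not_commute_prod hb (S.conj_mem_fib g hx) (S.conj_mem_fib g hy)
    (fun e => hxy (Subtype.ext (conj_injective e))) hr.1 (fun hin => hne ?_) ?_
  · rw [← fib_eq hin, fib_eq hr]
    exact self_mem_fib (S.closed.2 g' a ha)
  · rw [show g * (x : G) * g⁻¹ * (g * (y : G) * g⁻¹) = g * ((x : G) * y) * g⁻¹ by group, h']
    have hzw' : Commute (z : G) (w : G) := congrArg Subtype.val hzw.eq
    exact (Commute.conj_iff g').2 ((Commute.refl (z : G)).mul_left hzw'.symm)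

end Setup

end Cfsg.Agent.Lib.FischerTriality11
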