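import Cfsg.Agent.Lib.ThreeTranspositions.Maximal
import Cfsg.Agent.Lib.ThreeTranspositions.SimpleDerived
import Cfsg.Agent.Lib.FischerThm.Defs

/-!
# Disconnected commuting graph: the fibres over the quotient by the component

`fib D L a` is the set of members of `D` in the coset of `a` modulo the component `L`; it generates
`grp L a = L⟨a⟩` and is a primitive class there.  Members of different fibres never commute, and a
product of two members of one fibre centralises no member of another fibre.
-/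
set_option autoImplicit false
set_option linter.style.haveILetI false

open Cfsg
open Cfsg.Agent.Lib.ThreeTranspositions
open scoped IsMulCommutative commutatorElement

namespace Cfsg.Agent.Lib.FischerTriality11

universe u

variable {G : Type u} [Group G] {D : Set G} {L : Subgroup G} {a b c x y z : G}

/-- The standing hypotheses: `L` is the simple component, self-centralising, of index above two. -/
structure Setup (D : Set G) (L : Subgroup G) : Prop where
  cls : IsThreeTranspositionClass D
  normal : L.Normal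
  qs : IsQuasisimple L
  gf : generalizedFittingSubgroup G = L
  cent : Subgroup.centralizer (L : Set G) = ⊥
  simple : IsSimpleGroup L
  idx : 2 < L.index
  com : ∀ x ∈ D, ∀ y ∈ D, Commute x y → x⁻¹ * y ∈ L
  pair : ∃ p ∈ D, ∃ q ∈ D, p ≠ q ∧ Commute p q

theorem exists_setup [Finite G] (hD : IsThreeTranspositionClass D) (hZ : Subgroup.center G = ⊥)
    (h2 : pCore 2 G = ⊥) (h3 : pCore 3 G = ⊥) (hdisc : ¬ (commutingGraph D).Connected) :
    ∃ L : Subgroup G, Setup D L := by
  have hC := isClosedSet_of_class hD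
  have hS := hC.1
  obtain ⟨d, hd⟩ : D.Nonempty := by
    obtain ⟨d, hd, rfl⟩ := hD.2.1
    exact ⟨d, mem_conjugatesOf_self⟩
  have hD2 : ∃ a ∈ D, ∃ b ∈ D, a ≠ b := by
    by_contra hcon
    push Not at hcon
    have hc : d ∈ Subgroup.center G :=
      mem_center_of_commute_gen hD.2.2 fun f hf => by rw [hcon d hd f hf]
    rw [hZ, Subgroup.mem_bot] at hc
    exact ne_one hS hd hc
  have hw : ∃ p ∈ D, ∃ q ∈ D, p ≠ q ∧ Commute p q := by
    by_contra hcon
    push Not at hcon
    obtain ⟨p, hp, q, hq, hpq⟩ := hD2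
    have h := width_one_mul_mem quaternionCentre hC
      (fun r hr s hs h => by_contra fun hne => hcon r hr s hs hne h) hp hq
    rw [h3, Subgroup.mem_bot] at h
    exact hpq ((eq_inv_of_mul_eq_one_left h).trans (inv_eq hS hq))
  have h2' : pCore 2 G ≤ Subgroup.center G := by rw [h2]; exact bot_le
  have h3' : pCore 3 G ≤ Subgroup.center G := by rw [h3]; exact bot_le
  obtain ⟨L, hn, hcomp, -, hF⟩ := exists_component hD hD2 h2' h3'
  haveI := hn
  have hcL : Subgroup.center L = ⊥ := by
    haveI := Cores.normal_map_subtype L (Subgroup.center L)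
    rcases le_center_or_le hD h2' h3' hcomp.2 hF ((Subgroup.center L).map L.subtype) with h | h
    · rw [hZ, le_bot_iff, Subgroup.map_eq_bot_iff_of_injective _ L.subtype_injective] at h
      exact h
    · exact absurd (eq_top_iff.2 fun x _ => by
        obtain ⟨y, hy, hyx⟩ := h x.2
        rwa [L.subtype_injective hyx] at hy) (Components.Quasisimple.center_ne_top hcomp.2)
  refine ⟨L, hD, hn, hcomp.2, by rw [hF, hZ, sup_bot_eq], ?_, ?_, ?_, ?_, hw⟩
  · haveI : (Subgroup.centralizer (L : Set G)).Normal := inferInstance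
    rcases le_center_or_le hD h2' h3' hcomp.2 hF (Subgroup.centralizer (L : Set G)) with h | h
    · rwa [hZ, le_bot_iff] at h
    · exact absurd (eq_top_iff.2 fun x _ => Subgroup.mem_center_iff.2 fun y =>
        Subtype.ext (Subgroup.mem_centralizer_iff.1 (h x.2) y y.2))
        (Components.Quasisimple.center_ne_top hcomp.2)
  · haveI := hcomp.2.2
    exact ((QuotientGroup.quotientMulEquivOfEq hcL).trans QuotientGroup.quotientBot).symm.isSimpleGroup
  · by_contra hle
    push Not at hle
    exact hdisc (connected_of_primitive hD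
      (isPrimitive_of_index_le_two hD hD2 h2' h3' hcomp.2 hF hle) hw)
  · intro x hx y hy h
    refine inv_mul_mem_quasisimple hD hcomp.2 hx hy ?_
    rw [h.eq, mul_inv_cancel_right, mul_inv_cancel]
    exact one_mem _

/-- The members of `D` in the coset of `a`. -/
def fib (D : Set G) (L : Subgroup G) (a : G) : Set G := {x | x ∈ D ∧ a⁻¹ * x ∈ L}

/-- The group generated by a fibre. -/
def grp (L : Subgroup G) (a : G) : Subgroup G := L ⊔ Subgroup.zpowers a

/-- A fibre as a subset of the group it generates. -/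
def fibSet (D : Set G) (L : Subgroup G) (a : G) : Set ↥(grp L a) := {x | (x : G) ∈ fib D L a}

theorem self_mem_fib (ha : a ∈ D) : a ∈ fib D L a :=
  ⟨ha, by rw [inv_mul_cancel]; exact L.one_mem⟩

theorem fib_eq (hb : b ∈ fib D L a) : fib D L b = fib D L a := by
  ext x
  refine ⟨fun hx => ⟨hx.1, ?_⟩, fun hx => ⟨hx.1, ?_⟩⟩
  · have := L.mul_mem hb.2 hx.2
    rwa [show a⁻¹ * b * (b⁻¹ * x) = a⁻¹ * x by group] at this
  · have := L.mul_mem (L.inv_mem hb.2) hx.2
    rwa [show (a⁻¹ * b)⁻¹ * (a⁻¹ * x) = b⁻¹ * x by group] at this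

theorem symm_mem_fib (hb : b ∈ fib D L a) (ha : a ∈ D) : a ∈ fib D L b := by
  rw [fib_eq hb]; exact self_mem_fib ha

theorem le_grp : L ≤ grp L a := le_sup_left

theorem self_mem_grp : a ∈ grp L a := le_sup_right (a := L) (Subgroup.mem_zpowers a)

theorem fib_subset_grp (hx : x ∈ fib D L a) : x ∈ grp L a := by
  have := (grp L a).mul_mem (self_mem_grp (L := L)) (le_grp (a := a) hx.2)
  rwa [mul_inv_cancel_left] at this

namespace Setup

variable (S : Setup D L)
include S

theorem closed : IsClosedSet D := isClosedSet_of_class S.cls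

theorem tset : IsThreeTranspositionSet D := S.cls.1

theorem conj_mem_fib (g : G) (hx : x ∈ fib D L a) : g * x * g⁻¹ ∈ fib D L (g * a * g⁻¹) := by
  refine ⟨S.closed.2 g x hx.1, ?_⟩
  have := S.normal.conj_mem _ hx.2 g
  rwa [show g * (a⁻¹ * x) * g⁻¹ = (g * a * g⁻¹)⁻¹ * (g * x * g⁻¹) by group] at this

theorem notMem (ha : a ∈ D) : a ∉ L := by
  intro h
  have htop : L = ⊤ := by
    haveI := S.normal
    rw [eq_top_iff, ← S.cls.2.2, Subgroup.closure_le]
    intro y hy
    obtain ⟨k, rfl⟩ := class_exists_conj S.cls ha hy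
    exact S.normal.conj_mem a h k
  have := S.idx
  rw [htop, Subgroup.index_top] at this
  omega

theorem same_of_commute (hx : x ∈ D) (hy : y ∈ D) (h : Commute x y) : y ∈ fib D L x :=
  ⟨hy, S.com x hx y hy h⟩

theorem eq_one_of_commute_L {g : G} (h : ∀ l ∈ L, Commute g l) : g = 1 := by
  have : g ∈ Subgroup.centralizer (L : Set G) :=
    Subgroup.mem_centralizer_iff.2 fun l hl => (h l hl).eq.symm
  rwa [S.cent, Subgroup.mem_bot] at this

theorem exists_conj_mem_L (ha : a ∈ D) (hx : x ∈ fib D L a) : ∃ l ∈ L, l * a * l⁻¹ = x := by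
  have hS := S.tset
  by_contra hcon
  push Not at hcon
  -- a member commutes with all `L`-conjugates of `a`
  have hall : ∀ l ∈ L, Commute x (l * a * l⁻¹) := by
    intro l hl
    by_contra hn
    set y := l * a * l⁻¹ with hy
    have hyD : y ∈ D := S.closed.2 l a ha
    have hfy : y ∈ fib D L a := by
      refine ⟨hyD, ?_⟩
      have := L.mul_mem (S.normal.conj_mem l hl a⁻¹) (L.inv_mem hl)
      rw [inv_inv] at this
      rwa [hy, show a⁻¹ * (l * a * l⁻¹) = a⁻¹ * l * a * l⁻¹ by group]
    have hr : y * x ∈ L := by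
      have h1 := L.mul_mem (L.inv_mem hfy.2) hx.2
      rwa [show (a⁻¹ * y)⁻¹ * (a⁻¹ * x) = y⁻¹ * x by group, inv_eq hS hyD] at h1
    refine hcon ((y * x) * l) (L.mul_mem hr hl) ?_
    rw [show y * x * l * a * (y * x * l)⁻¹ = y * x * (l * a * l⁻¹) * (x⁻¹ * y⁻¹) by group, ← hy,
      inv_eq hS hx.1, inv_eq hS hyD]
    calc y * x * y * (x * y) = (y * x * y) * x * y := by simp only [mul_assoc]
      _ = x * (y * (x * x) * y) := by
          rw [braid hS hyD hx.1 (fun h => hn h.symm)]; simp only [mul_assoc]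
      _ = x := by rw [mul_self hS hx.1, mul_one, mul_self hS hyD, mul_one]
  let M : Subgroup G := Subgroup.centralizer ({x} : Set G)
  have hM : ∀ l ∈ L, l * a * l⁻¹ * a ∈ M := by
    intro l hl
    refine M.mul_mem (Subgroup.mem_centralizer_singleton_iff.2 (hall l hl).eq.symm) ?_
    have := hall 1 L.one_mem
    rw [one_mul, inv_one, mul_one] at this
    exact Subgroup.mem_centralizer_singleton_iff.2 this.eq.symm
  let N : Subgroup G := Subgroup.closure {g | ∃ l ∈ L, g = l * a * l⁻¹ * a}
  have hNL : N ≤ L := by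
    rw [Subgroup.closure_le]
    rintro _ ⟨l, hl, rfl⟩
    have := L.mul_mem hl (S.normal.conj_mem _ (L.inv_mem hl) a)
    rwa [inv_eq hS ha, show l * (a * l⁻¹ * a) = l * a * l⁻¹ * a by simp only [mul_assoc]] at this
  haveI : (N.subgroupOf L).Normal := by
    refine ⟨fun n hn g => ?_⟩
    rw [Subgroup.mem_subgroupOf] at hn ⊢
    show (g : G) * n * (g : G)⁻¹ ∈ N
    generalize hn' : (n : G) = m at hn ⊢
    clear hn'
    induction hn using Subgroup.closure_induction with
    | mem m hm =>
      obtain ⟨l, hl, rfl⟩ := hm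
      have h1 : ((g : G) * l) * a * ((g : G) * l)⁻¹ * a ∈ N :=
        Subgroup.subset_closure ⟨_, L.mul_mem g.2 hl, rfl⟩
      have h2 : (g : G) * a * (g : G)⁻¹ * a ∈ N := Subgroup.subset_closure ⟨_, g.2, rfl⟩
      have := N.mul_mem h1 (N.inv_mem h2)
      convert this using 1
      group
      rw [zpow_neg_one a, inv_eq hS ha]
    | one => simp
    | mul p q _ _ hp hq =>
      have := N.mul_mem hp hq
      convert this using 1
      group
    | inv p _ hp =>
      have := N.inv_mem hp
      convert this using 1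
      group
  haveI := S.simple
  rcases IsSimpleGroup.eq_bot_or_eq_top_of_normal (N.subgroupOf L) inferInstance with h | h
  · apply ne_one hS ha
    refine S.eq_one_of_commute_L fun l hl => ?_
    have hm : l * a * l⁻¹ * a ∈ N := Subgroup.subset_closure ⟨l, hl, rfl⟩
    have h' : (⟨_, hNL hm⟩ : L) ∈ N.subgroupOf L := hm
    rw [h, Subgroup.mem_bot] at h'
    have h1 : l * a * l⁻¹ = a :=
      (eq_inv_of_mul_eq_one_left (congrArg Subtype.val h')).trans (inv_eq hS ha)
    show a * l = l * a
    nth_rw 1 [← h1]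
    group
  · apply ne_one hS hx.1
    refine S.eq_one_of_commute_L fun l hl => ?_
    have hle : N ≤ M := by
      rw [Subgroup.closure_le]
      rintro _ ⟨k, hk, rfl⟩
      exact hM k hk
    exact (Subgroup.mem_centralizer_singleton_iff.1 (hle (Subgroup.subgroupOf_eq_top.1 h hl))).symm

/-- Different members of one fibre: their product centralises no member outside the fibre. -/
theorem not_commute_prod (ha : a ∈ D) (hx : x ∈ fib D L a) (hy : y ∈ fib D L a) (hxy : x ≠ y)
    (hz : z ∈ D) (hzn : z ∉ fib D L a) : ¬ Commute (x * y) z := by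
  intro h
  have hS := S.tset
  have hnx : ¬ Commute x z := fun h' => hzn (by
    rw [← fib_eq hx]; exact S.same_of_commute hx.1 hz h')
  have hny : ¬ Commute y z := fun h' => hzn (by
    rw [← fib_eq hy]; exact S.same_of_commute hy.1 hz h')
  apply hxy
  have h1 : y * z * y = x * z * x := by
    calc y * z * y = x * (x * y * z) * y := by simp only [mul_assoc, mul_self_assoc hS hx.1]
      _ = x * (z * (x * y)) * y := by rw [h.eq]
      _ = x * z * x := by simp only [mul_assoc, mul_self hS hy.1, mul_one]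
  rw [braid hS hy.1 hz hny, braid hS hx.1 hz hnx] at h1
  have := congrArg (fun w => z * w * z) h1
  simp only [mul_assoc, mul_self_assoc hS hz, mul_self hS hz, mul_one] at this
  exact this.symm

omit S in
theorem grp_map [L.Normal] {g : G} (hg : g ∈ grp L a) :
    (QuotientGroup.mk g : G ⧸ L) ∈ Subgroup.zpowers (QuotientGroup.mk a : G ⧸ L) := by
  have h : grp L a ≤ (Subgroup.zpowers (QuotientGroup.mk' L a)).comap (QuotientGroup.mk' L) :=
    sup_le (fun l hl => by
      show QuotientGroup.mk' L l ∈ Subgroup.zpowers (QuotientGroup.mk' L a)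
      rw [show QuotientGroup.mk' L l = 1 from (QuotientGroup.eq_one_iff l).2 hl]
      exact Subgroup.one_mem _)
      (Subgroup.zpowers_le.2 (Subgroup.mem_zpowers _))
  exact h hg

theorem conj_mem_fib_self (ha : a ∈ D) {g : G} (hg : g ∈ grp L a) :
    g * a * g⁻¹ ∈ fib D L a := by
  haveI := S.normal
  refine ⟨S.closed.2 g a ha, ?_⟩
  rw [← QuotientGroup.eq]
  obtain ⟨k, hk⟩ := Subgroup.mem_zpowers_iff.1 (grp_map hg)
  rw [QuotientGroup.mk_mul, QuotientGroup.mk_mul, QuotientGroup.mk_inv, ← hk]
  group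

theorem fibSet_eq (ha : a ∈ D) :
    fibSet D L a = conjugatesOf (⟨a, self_mem_grp⟩ : ↥(grp L a)) := by
  ext x
  simp only [conjugatesOf, Set.mem_ofPred_eq, isConj_iff]
  constructor
  · intro hx
    obtain ⟨l, hl, he⟩ := S.exists_conj_mem_L ha hx
    exact ⟨⟨l, le_grp hl⟩, Subtype.ext he⟩
  · rintro ⟨g, rfl⟩
    exact S.conj_mem_fib_self ha g.2

theorem closure_fibSet (ha : a ∈ D) : Subgroup.closure (fibSet D L a) = ⊤ := by
  have hS := S.tset
  set C := Subgroup.closure (fibSet D L a) with hC
  have haC : (⟨a, self_mem_grp⟩ : ↥(grp L a)) ∈ C := Subgroup.subset_closure (self_mem_fib ha)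
  haveI : C.Normal := by
    rw [hC, S.fibSet_eq ha]
    exact closure_normal fun g d hd => IsConj.trans hd (isConj_iff.2 ⟨g, rfl⟩)
  haveI := S.simple
  haveI := S.normal
  haveI : ((C.map (grp L a).subtype).subgroupOf L).Normal := by
    refine ⟨fun n hn g => ?_⟩
    rw [Subgroup.mem_subgroupOf] at hn ⊢
    obtain ⟨n', hn', hnn⟩ := hn
    refine ⟨⟨(g : G), le_grp g.2⟩ * n' * ⟨(g : G), le_grp g.2⟩⁻¹,
      (inferInstance : C.Normal).conj_mem n' hn' _, ?_⟩
    show (g : G) * (n' : G) * (g : G)⁻¹ = _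
    rw [show (n' : G) = (n : G) from hnn]
    rfl
  have hL : L ≤ C.map (grp L a).subtype := by
    rcases IsSimpleGroup.eq_bot_or_eq_top_of_normal ((C.map (grp L a).subtype).subgroupOf L)
      inferInstance with h | h
    swap
    · exact Subgroup.subgroupOf_eq_top.1 h
    exfalso
    apply ne_one hS ha
    refine S.eq_one_of_commute_L fun l hl => ?_
    set l' : ↥(grp L a) := ⟨l, le_grp hl⟩
    set a' : ↥(grp L a) := ⟨a, self_mem_grp⟩
    have hm : l * a * l⁻¹ * a ∈ L := by
      have := L.mul_mem hl (S.normal.conj_mem _ (L.inv_mem hl) a)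
      rwa [inv_eq hS ha, show l * (a * l⁻¹ * a) = l * a * l⁻¹ * a by simp only [mul_assoc]] at this
    have h' : (⟨_, hm⟩ : L) ∈ (C.map (grp L a).subtype).subgroupOf L :=
      ⟨l' * a' * l'⁻¹ * a', C.mul_mem ((inferInstance : C.Normal).conj_mem a' haC l') haC, rfl⟩
    rw [h, Subgroup.mem_bot] at h'
    have h1 : l * a * l⁻¹ = a :=
      (eq_inv_of_mul_eq_one_left (congrArg Subtype.val h')).trans (inv_eq hS ha)
    show a * l = l * a
    nth_rw 1 [← h1]
    group
  have htop : grp L a ≤ C.map (grp L a).subtype :=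
    sup_le hL (Subgroup.zpowers_le.2 ⟨_, haC, rfl⟩)
  rw [eq_top_iff]
  intro x _
  obtain ⟨y, hy, hyx⟩ := htop x.2
  rwa [(grp L a).subtype_injective hyx] at hy

theorem fib_class (ha : a ∈ D) : IsThreeTranspositionClass (fibSet D L a) := by
  have hS := S.tset
  refine ⟨⟨fun d hd => ?_, fun d hd e he => ?_⟩,
    ⟨⟨a, self_mem_grp⟩, self_mem_fib ha, S.fibSet_eq ha⟩, S.closure_fibSet ha⟩
  · rw [← Subgroup.orderOf_coe]; exact hS.1 _ hd.1
  · rcases hS.2 _ hd.1 _ he.1 with h | h
    · exact Or.inl (Subtype.ext (by simpa using h))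
    · exact Or.inr (Subtype.ext (by simpa using h))

theorem exists_fib_pair (ha : a ∈ D) : ∃ x ∈ fib D L a, ∃ y ∈ fib D L a, x ≠ y ∧ Commute x y := by
  obtain ⟨p, hp, q, hq, hpq, hc⟩ := S.pair
  obtain ⟨g, rfl⟩ := class_exists_conj S.cls hp ha
  refine ⟨_, self_mem_fib (S.closed.2 g p hp), g * q * g⁻¹,
    S.conj_mem_fib g (S.same_of_commute hp hq hc), fun h => hpq (conj_injective h), ?_⟩
  exact (Commute.conj_iff g).2 hc

theorem center_grp : Subgroup.center ↥(grp L a) = ⊥ := by
  rw [eq_bot_iff]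
  intro z hz
  rw [Subgroup.mem_bot]
  exact Subtype.ext (S.eq_one_of_commute_L fun l hl =>
    (congrArg Subtype.val (Subgroup.mem_center_iff.1 hz ⟨l, le_grp hl⟩)).symm)

theorem commutator_grp : commutator ↥(grp L a) = L.subgroupOf (grp L a) := by
  haveI := S.normal
  refine le_antisymm ?_ ?_
  · rw [commutator_def, Subgroup.commutator_le]
    intro p _ q _
    rw [Subgroup.mem_subgroupOf, commutatorElement_def]
    show (p : G) * q * (p : G)⁻¹ * (q : G)⁻¹ ∈ L
    rw [← QuotientGroup.eq_one_iff]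
    obtain ⟨i, hi⟩ := Subgroup.mem_zpowers_iff.1 (grp_map p.2)
    obtain ⟨j, hj⟩ := Subgroup.mem_zpowers_iff.1 (grp_map q.2)
    simp only [QuotientGroup.mk_mul, QuotientGroup.mk_inv]
    rw [← hi, ← hj]
    group
  · intro z hz
    rw [Subgroup.mem_subgroupOf] at hz
    have h1 : (⟨(z : G), hz⟩ : L) ∈ commutator L := by
      rw [S.qs.1.commutator_eq_top]; exact Subgroup.mem_top _
    have h2 : (commutator L).map (Subgroup.inclusion (le_grp (L := L) (a := a))) ≤
        commutator ↥(grp L a) := by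
      rw [commutator_def, commutator_def, Subgroup.map_commutator]
      exact Subgroup.commutator_mono le_top le_top
    exact h2 ⟨_, h1, Subtype.ext rfl⟩

variable [Finite G]

theorem prim (ha : a ∈ D) : FischerThm.Prim (fibSet D L a) := by
  obtain ⟨x, hx, y, hy, hxy, hc⟩ := S.exists_fib_pair ha
  have hw : ∃ p ∈ fibSet D L a, ∃ q ∈ fibSet D L a, p ≠ q ∧ Commute p q :=
    ⟨⟨x, fib_subset_grp hx⟩, hx, ⟨y, fib_subset_grp hy⟩, hy,
      fun h => hxy (congrArg Subtype.val h), Subtype.ext hc.eq⟩
  haveI := S.simple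
  have hs : IsSimpleGroup (commutator ↥(grp L a)) :=
    ((MulEquiv.subgroupCongr S.commutator_grp).trans
      (Subgroup.subgroupOfEquivOfLe le_grp)).isSimpleGroup
  have hcl := S.fib_class ha
  refine ⟨isThreeTranspositionGroup_of_class hcl,
    isPrimitive_of_simple hcl S.center_grp hw hs, S.center_grp, ?_⟩
  obtain ⟨p, hp, q, hq, hpq, hc⟩ := hw
  exact ⟨p, hp, q, hq, hpq.symm, hc⟩

end Setup

end Cfsg.Agent.Lib.FischerTriality11
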