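import Mathlib

/-!
# Anticommuting families of endomorphisms force powers of two into the dimension

Over a field of characteristic two: square-zero endomorphisms with all anticommutators one.  Over
three elements: anticommuting endomorphisms with squares one or minus one.
-/
set_option autoImplicit false
set_option linter.unusedSectionVars false

namespace Cfsg.Agent.Lib.FischerTriality11.Linear

open Module

section Halve

variable {K V : Type*} [Field K] [AddCommGroup V] [Module K V] [FiniteDimensional K V]

/-- An idempotent exchanged with its complement by an invertible map halves the dimension. -/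
theorem finrank_eq_two_mul {P s t : V →ₗ[K] V} (hP : P * P = P) (hts : t * s = 1)
    (hst : s * t = 1) (h : s * P = (1 - P) * s) :
    finrank K V = 2 * finrank K (LinearMap.range P) := by
  have h1 := LinearMap.finrank_range_add_finrank_ker P
  have hk : LinearMap.ker P = (LinearMap.range P).map s := by
    ext x
    constructor
    · intro hx
      refine ⟨P (t x), LinearMap.mem_range_self _ _, ?_⟩
      have e : s (P (t x)) = (1 - P : V →ₗ[K] V) (s (t x)) := LinearMap.congr_fun h (t x)
      have e2 : s (t x) = x := LinearMap.congr_fun hst x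
      rw [e, e2, LinearMap.sub_apply, Module.End.one_apply, LinearMap.mem_ker.1 hx, sub_zero]
    · rintro ⟨_, ⟨y, rfl⟩, rfl⟩
      have e : s (P y) = (1 - P : V →ₗ[K] V) (s y) := LinearMap.congr_fun h y
      rw [LinearMap.mem_ker, e, LinearMap.sub_apply, Module.End.one_apply, map_sub,
        show P (P (s y)) = P (s y) from LinearMap.congr_fun hP (s y), sub_self]
  have hinj : Function.Injective s := fun x y hxy => by
    have := congrArg t hxy
    rwa [show t (s x) = x from LinearMap.congr_fun hts x,
      show t (s y) = y from LinearMap.congr_fun hts y] at this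
  rw [hk, ← (Submodule.equivMapOfInjective s hinj _).finrank_eq] at h1
  omega

omit [FiniteDimensional K V] in
theorem mapsTo_range {P f : V →ₗ[K] V} (h : Commute f P) :
    ∀ x ∈ LinearMap.range P, f x ∈ LinearMap.range P := by
  rintro _ ⟨y, rfl⟩
  exact ⟨f y, (LinearMap.congr_fun h.eq y).symm⟩

end Halve

/-! ### Characteristic two -/

section Two

theorem fermion_step {R : Type*} [Ring R] (h2 : ∀ x : R, x + x = 0) {n : ℕ} {r : Fin (n + 2) → R}
    (hr : ∀ i, r i * r i = 0) (ha : ∀ i j, i ≠ j → r i * r j + r j * r i = 1) :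
    let s : Fin n → R := fun i => r i.succ.succ + r 0 + r 1 + 1
    (∀ i, s i * s i = 0) ∧ (∀ i j, i ≠ j → s i * s j + s j * s i = 1) ∧
      ∀ i, Commute (s i) (r 0 * r 1) := by
  intro s
  have hne0 : ∀ i : Fin n, i.succ.succ ≠ (0 : Fin (n + 2)) := fun i => Fin.succ_ne_zero _
  have hne1 : ∀ i : Fin n, i.succ.succ ≠ (1 : Fin (n + 2)) := fun i h =>
    Fin.succ_ne_zero i (Fin.succ_injective _ (h.trans Fin.succ_zero_eq_one.symm))
  have h01 := ha 0 1 (by simp)
  have four : ∀ x : R, x + x + x = x := fun x => by rw [h2, zero_add]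
  refine ⟨fun i => ?_, fun i j hij => ?_, fun i => ?_⟩
  · show (r i.succ.succ + r 0 + r 1 + 1) * (r i.succ.succ + r 0 + r 1 + 1) = 0
    calc _ = r i.succ.succ * r i.succ.succ + r 0 * r 0 + r 1 * r 1
          + (r i.succ.succ * r 0 + r 0 * r i.succ.succ)
          + (r i.succ.succ * r 1 + r 1 * r i.succ.succ) + (r 0 * r 1 + r 1 * r 0)
          + ((r i.succ.succ + r 0 + r 1) + (r i.succ.succ + r 0 + r 1)) + 1 := by noncomm_ring
      _ = 0 := by
        rw [hr, hr, hr, ha _ _ (hne0 i), ha _ _ (hne1 i), h01, h2, add_zero, zero_add, four, h2, add_zero, h2]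
  · have hij' : i.succ.succ ≠ j.succ.succ := fun h => hij (Fin.succ_injective _ (Fin.succ_injective _ h))
    show (r i.succ.succ + r 0 + r 1 + 1) * (r j.succ.succ + r 0 + r 1 + 1)
      + (r j.succ.succ + r 0 + r 1 + 1) * (r i.succ.succ + r 0 + r 1 + 1) = 1
    calc _ = (r i.succ.succ * r j.succ.succ + r j.succ.succ * r i.succ.succ)
          + (r i.succ.succ * r 0 + r 0 * r i.succ.succ) + (r i.succ.succ * r 1 + r 1 * r i.succ.succ)
          + (r j.succ.succ * r 0 + r 0 * r j.succ.succ) + (r j.succ.succ * r 1 + r 1 * r j.succ.succ)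
          + ((r 0 * r 1 + r 1 * r 0) + (r 0 * r 1 + r 1 * r 0))
          + (r 0 * r 0 + r 0 * r 0) + (r 1 * r 1 + r 1 * r 1)
          + ((r i.succ.succ + r j.succ.succ + r 0 + r 0 + r 1 + r 1 + 1) +
             (r i.succ.succ + r j.succ.succ + r 0 + r 0 + r 1 + r 1 + 1)) := by noncomm_ring
      _ = 1 := by
        rw [hr, hr, ha _ _ hij', ha _ _ (hne0 i), ha _ _ (hne1 i), ha _ _ (hne0 j), ha _ _ (hne1 j),
          h01, h2, h2, h2]
        simp [h2]
  · have key : ∀ k : Fin (n + 2), (k = 0 ∨ k = 1) → Commute (r i.succ.succ + r 0 + r 1 + 1) (r k) := by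
      intro k hk
      refine Commute.add_left ?_ (Commute.one_left _)
      have hz : (r i.succ.succ + r 0 + r 1) * r k + r k * (r i.succ.succ + r 0 + r 1) = 0 := by
        rcases hk with rfl | rfl
        · calc _ = (r i.succ.succ * r 0 + r 0 * r i.succ.succ) + (r 0 * r 0 + r 0 * r 0)
                + (r 0 * r 1 + r 1 * r 0) := by noncomm_ring
            _ = 0 := by rw [ha _ _ (hne0 i), hr, h01, add_zero, add_zero, h2]
        · calc _ = (r i.succ.succ * r 1 + r 1 * r i.succ.succ) + (r 0 * r 1 + r 1 * r 0)
                + (r 1 * r 1 + r 1 * r 1) := by noncomm_ring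
            _ = 0 := by rw [ha _ _ (hne1 i), hr, h01, add_zero, add_zero, h2]
      show _ * _ = _ * _
      rw [eq_neg_of_add_eq_zero_left hz]
      exact (eq_neg_of_add_eq_zero_left (h2 _)).symm
    exact (key 0 (Or.inl rfl)).mul_right (key 1 (Or.inr rfl))

variable {K : Type*} [Field K]

theorem fermion (h2 : (2 : K) = 0) : ∀ (n : ℕ) {V : Type} [AddCommGroup V] [Module K V]
    [FiniteDimensional K V] (r : Fin n → V →ₗ[K] V), (∀ i, r i * r i = 0) →
    (∀ i j, i ≠ j → r i * r j + r j * r i = 1) → 2 ^ (n / 2) ∣ finrank K V := by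
  intro n
  induction n using Nat.strong_induction_on with
  | _ n ih =>
    intro V _ _ _ r hr ha
    rcases n with _ | _ | n
    · simp
    · simp
    have hchar : ∀ x : V →ₗ[K] V, x + x = 0 := fun x => by
      rw [← two_smul K x, h2, zero_smul]
    obtain ⟨hs, hsa, hc⟩ := fermion_step hchar hr ha
    set P := r 0 * r 1 with hPdef
    have h01 := ha 0 1 (by simp)
    have hP : P * P = P := by
      have e : r 1 * r 0 = 1 - r 0 * r 1 := eq_sub_of_add_eq' h01
      calc P * P = r 0 * (r 1 * r 0) * r 1 := by simp only [hPdef, mul_assoc]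
        _ = r 0 * r 1 - (r 0 * r 0) * (r 1 * r 1) := by rw [e]; noncomm_ring
        _ = P := by rw [hr, zero_mul, sub_zero]
    have hs2 : (r 0 + r 1) * (r 0 + r 1) = 1 := by
      calc _ = r 0 * r 0 + r 1 * r 1 + (r 0 * r 1 + r 1 * r 0) := by noncomm_ring
        _ = 1 := by rw [hr, hr, h01, add_zero, zero_add]
    have hsw : (r 0 + r 1) * P = (1 - P) * (r 0 + r 1) := by
      have e : (1 : V →ₗ[K] V) - P = r 1 * r 0 := sub_eq_of_eq_add' h01.symm
      rw [e, hPdef]
      calc (r 0 + r 1) * (r 0 * r 1) = (r 0 * r 0) * r 1 + r 1 * r 0 * r 1 := by noncomm_ring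
        _ = r 1 * (r 0 * r 0) + r 1 * r 0 * r 1 := by rw [hr, zero_mul, mul_zero]
        _ = _ := by noncomm_ring
    have hdim := finrank_eq_two_mul hP hs2 hs2 hsw
    let s : Fin n → LinearMap.range P →ₗ[K] LinearMap.range P := fun i =>
      (r i.succ.succ + r 0 + r 1 + 1).restrict (mapsTo_range (hc i))
    have hs' : ∀ i, s i * s i = 0 := fun i => LinearMap.ext fun x =>
      Subtype.ext (LinearMap.congr_fun (hs i) (x : V))
    have hsa' : ∀ i j, i ≠ j → s i * s j + s j * s i = 1 := fun i j hij => LinearMap.ext fun x =>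
      Subtype.ext (LinearMap.congr_fun (hsa i j hij) (x : V))
    have := ih n (by omega) s hs' hsa'
    rw [show (n + 1 + 1) / 2 = n / 2 + 1 by omega, pow_succ', hdim]
    exact mul_dvd_mul_left 2 this

end Two

/-! ### Three elements -/

section Three

/-- anticommuting -/
def Anti {R : Type*} [Ring R] (x y : R) : Prop := x * y = -(y * x)

variable {R : Type*} [Ring R] {x y z : R}

theorem Anti.symm (h : Anti x y) : Anti y x := by
  unfold Anti at *; rw [h, neg_neg]

theorem Anti.commute_mul (h : Anti x y) (h' : Anti x z) : Commute x (y * z) := by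
  show x * (y * z) = y * z * x
  rw [← mul_assoc, h, neg_mul, mul_assoc, h', mul_neg, neg_neg, mul_assoc]

theorem Anti.mul_of_commute (h : Anti x y) (h' : Commute x z) : Anti x (y * z) := by
  show x * (y * z) = -(y * z * x)
  rw [← mul_assoc, h, neg_mul, mul_assoc, h'.eq, mul_assoc]

theorem Anti.commute_left_mul (h' : Commute x y) (h : Anti x z) : Anti x (y * z) := by
  show x * (y * z) = -(y * z * x)
  rw [← mul_assoc, h'.eq, mul_assoc, h, mul_neg, mul_assoc]

variable {V : Type} [AddCommGroup V] [Module (ZMod 3) V] [FiniteDimensional (ZMod 3) V]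

theorem even_finrank {J : V →ₗ[ZMod 3] V} (h : J * J = -1) : Even (finrank (ZMod 3) V) := by
  by_contra hodd
  rw [Nat.not_even_iff_odd] at hodd
  have h1 := congrArg LinearMap.det h
  rw [map_mul, show (-1 : V →ₗ[ZMod 3] V) = (-1 : ZMod 3) • (1 : V →ₗ[ZMod 3] V) by
    rw [neg_one_smul], LinearMap.det_smul, map_one, mul_one, hodd.neg_one_pow] at h1
  revert h1
  generalize LinearMap.det J = z
  revert z
  decide

/-- Halving by an involution and a map inverting it; the commuting maps act on one half. -/
theorem halve {T s : V →ₗ[ZMod 3] V} (hT : T * T = 1) (hs : s * s = 1 ∨ s * s = -1)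
    (h : Anti s T) :
    finrank (ZMod 3) V = 2 * finrank (ZMod 3) (LinearMap.range ((2 : ZMod 3) • (1 + T))) := by
  set P := (2 : ZMod 3) • (1 + T) with hPdef
  have h3 : (3 : ZMod 3) = 0 := by decide
  have hP : P * P = P := by
    rw [hPdef, smul_mul_smul_comm, add_mul, mul_add, mul_add, one_mul, mul_one, one_mul, hT]
    linear_combination (norm := module) h3 • (2 • (1 + T : V →ₗ[ZMod 3] V))
  have hsw : s * P = (1 - P) * s := by
    have e : (1 : V →ₗ[ZMod 3] V) - P = (2 : ZMod 3) • (1 - T) := by
      rw [hPdef]
      linear_combination (norm := module) h3 • (-(1 : V →ₗ[ZMod 3] V))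
    rw [e, hPdef, mul_smul_comm, smul_mul_assoc, mul_add, sub_mul, mul_one, one_mul, h,
      ← sub_eq_add_neg]
  rcases hs with hs | hs
  · exact finrank_eq_two_mul hP hs hs hsw
  · exact finrank_eq_two_mul hP (s := s) (t := -s) (by rw [neg_mul, hs, neg_neg])
      (by rw [mul_neg, hs, neg_neg]) hsw

omit [FiniteDimensional (ZMod 3) V] in
theorem commute_proj {T f : V →ₗ[ZMod 3] V} (h : Commute f T) :
    Commute f ((2 : ZMod 3) • (1 + T)) :=
  (((Commute.one_right f).add_right h)).smul_right _

/-- Four anticommuting square roots of minus one need dimension divisible by four. -/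
theorem four_neg (A : Fin 4 → V →ₗ[ZMod 3] V) (hsq : ∀ i, A i * A i = -1)
    (ha : ∀ i j, i ≠ j → Anti (A i) (A j)) : 4 ∣ finrank (ZMod 3) V := by
  set T := A 1 * A 2 * A 3
  have h31 : Commute (A 3) (A 1 * A 2) := (ha 3 1 (by decide)).commute_mul (ha 3 2 (by decide))
  have hT : T * T = 1 := by
    calc T * T = A 1 * A 2 * (A 3 * (A 1 * A 2)) * A 3 := by simp only [T, mul_assoc]
      _ = (A 1 * A 2) * (A 1 * A 2) * (A 3 * A 3) := by rw [h31.eq]; simp only [mul_assoc]
      _ = A 1 * (A 2 * A 1) * A 2 * (A 3 * A 3) := by simp only [mul_assoc]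
      _ = -((A 1 * A 1) * (A 2 * A 2) * (A 3 * A 3)) := by
          rw [ha 2 1 (by decide)]; simp only [mul_neg, neg_mul, mul_assoc]
      _ = 1 := by rw [hsq, hsq, hsq]; simp
  have hs : Anti (A 0) T := Anti.commute_left_mul ((ha 0 1 (by decide)).commute_mul (ha 0 2 (by decide)))
    (ha 0 3 (by decide))
  have hJ : Commute (A 1 * A 2) T := (Commute.refl _).mul_right h31.symm
  have hdim := halve hT (Or.inr (hsq 0)) hs
  let J := (A 1 * A 2).restrict (mapsTo_range (commute_proj hJ))
  have hJJ : (A 1 * A 2) * (A 1 * A 2) = -1 := by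
    calc _ = A 1 * (A 2 * A 1) * A 2 := by simp only [mul_assoc]
      _ = -((A 1 * A 1) * (A 2 * A 2)) := by
          rw [ha 2 1 (by decide)]; simp only [mul_neg, neg_mul, mul_assoc]
      _ = -1 := by rw [hsq, hsq]; simp
  obtain ⟨k, hk⟩ := even_finrank (J := J)
    (LinearMap.ext fun x => Subtype.ext (LinearMap.congr_fun hJJ (x : V)))
  exact ⟨k, by omega⟩

theorem mul_sq_of_anti {f g : V →ₗ[ZMod 3] V} (h : Anti f g) (hf : f * f = 1 ∨ f * f = -1)
    (hg : g * g = 1 ∨ g * g = -1) : f * g * (f * g) = 1 ∨ f * g * (f * g) = -1 := by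
  have e : f * g * (f * g) = -((f * f) * (g * g)) := by
    calc f * g * (f * g) = f * (g * f) * g := by simp only [mul_assoc]
      _ = _ := by rw [h.symm]; simp only [mul_neg, neg_mul, mul_assoc]
  rw [e]
  rcases hf with hf | hf <;> rcases hg with hg | hg <;> rw [hf, hg] <;> simp

theorem anti_translate {f g g' : V →ₗ[ZMod 3] V} (hg : Anti f g) (hg' : Anti f g')
    (h : Anti g g') : Anti (f * g) (f * g') := by
  show f * g * (f * g') = -(f * g' * (f * g))
  calc f * g * (f * g') = f * (g * f) * g' := by simp only [mul_assoc]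
    _ = -(f * f * (g * g')) := by rw [hg.symm]; simp only [mul_neg, neg_mul, mul_assoc]
    _ = f * f * (g' * g) := by rw [h, mul_neg, neg_neg]
    _ = -(f * (g' * f) * g) := by rw [hg'.symm]; simp only [mul_neg, neg_mul, neg_neg, mul_assoc]
    _ = _ := by simp only [mul_assoc]

theorem clifford : ∀ (n : ℕ) {V : Type} [AddCommGroup V] [Module (ZMod 3) V]
    [FiniteDimensional (ZMod 3) V] (A : Fin n → V →ₗ[ZMod 3] V),
    (∀ i, A i * A i = 1 ∨ A i * A i = -1) → (∀ i j, i ≠ j → Anti (A i) (A j)) →
    2 ^ ((n - 1) / 2) ∣ finrank (ZMod 3) V := by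
  intro n
  induction n using Nat.strong_induction_on with
  | _ n ih =>
    intro V _ _ _ A hsq ha
    rcases Nat.lt_or_ge n 3 with hn | hn
    · rw [show (n - 1) / 2 = 0 by omega, pow_zero]; exact one_dvd _
    obtain ⟨m, rfl⟩ : ∃ m, n = m + 3 := ⟨n - 3, by omega⟩
    -- the descent: an involution, a swap, and a family of size two less commuting with it
    have step : ∀ (T s : V →ₗ[ZMod 3] V) (B : Fin (m + 1) → V →ₗ[ZMod 3] V), T * T = 1 →
        (s * s = 1 ∨ s * s = -1) → Anti s T → (∀ i, B i * B i = 1 ∨ B i * B i = -1) →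
        (∀ i j, i ≠ j → Anti (B i) (B j)) → (∀ i, Commute (B i) T) →
        2 ^ ((m + 3 - 1) / 2) ∣ finrank (ZMod 3) V := by
      intro T s B hT hs hsT hBsq hBa hBc
      rw [show (m + 3 - 1) / 2 = (m + 1 - 1) / 2 + 1 by omega, pow_succ', halve hT hs hsT]
      refine mul_dvd_mul_left 2 (ih (m + 1) (by omega)
        (fun i => (B i).restrict (mapsTo_range (commute_proj (hBc i)))) (fun i => ?_) fun i j hij => ?_)
      · rcases hBsq i with h | h
        · exact Or.inl (LinearMap.ext fun x => Subtype.ext (LinearMap.congr_fun h (x : V)))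
        · exact Or.inr (LinearMap.ext fun x => Subtype.ext (LinearMap.congr_fun h (x : V)))
      · exact LinearMap.ext fun x => Subtype.ext (LinearMap.congr_fun (hBa i j hij) (x : V))
    by_cases hpos : ∃ i, A i * A i = 1
    · obtain ⟨i, hi⟩ := hpos
      set σ := Equiv.swap 0 i
      set C : Fin (m + 3) → V →ₗ[ZMod 3] V := fun k => A (σ k)
      have hC : ∀ p q, p ≠ q → Anti (C p) (C q) := fun p q h => ha _ _ fun e => h (σ.injective e)
      have h0 : C 0 * C 0 = 1 := by
        show A (σ 0) * A (σ 0) = 1
        rw [Equiv.swap_apply_left]; exact hi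
      have hne : ∀ k : Fin (m + 1), k.succ.succ ≠ (0 : Fin (m + 3)) ∧ k.succ.succ ≠ (1 : Fin (m + 3)) :=
        fun k => ⟨Fin.succ_ne_zero _, fun h =>
          Fin.succ_ne_zero k (Fin.succ_injective _ (h.trans Fin.succ_zero_eq_one.symm))⟩
      refine step (C 0) (C 1) (fun k => C 1 * C k.succ.succ) h0 (hsq _) (hC 1 0 (by simp))
        (fun k => mul_sq_of_anti (hC _ _ (hne k).2.symm) (hsq _) (hsq _))
        (fun p q hpq => anti_translate (hC _ _ (hne p).2.symm) (hC _ _ (hne q).2.symm)
          (hC _ _ fun e => hpq (Fin.succ_injective _ (Fin.succ_injective _ e))))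
        (fun k => ((hC 0 1 (by simp)).commute_mul (hC _ _ (hne k).1.symm)).symm)
    push Not at hpos
    have hneg : ∀ i, A i * A i = -1 := fun i => (hsq i).resolve_left (hpos i)
    rcases Nat.eq_zero_or_pos m with rfl | hm
    · exact (even_finrank (hneg 0)).two_dvd
    obtain ⟨l, rfl⟩ : ∃ l, m = l + 1 := ⟨m - 1, by omega⟩
    -- all squares minus one and at least four of them
    have h4 : ∀ p q : Fin 4, p ≠ q →
        (Fin.castLE (by omega) p : Fin (l + 1 + 3)) ≠ Fin.castLE (by omega) q :=
      fun p q h e => h (Fin.castLE_injective _ e)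
    set a : Fin 4 → V →ₗ[ZMod 3] V := fun p => A (Fin.castLE (by omega) p) with hadef
    set e : Fin l → V →ₗ[ZMod 3] V := fun k => A ⟨k + 4, by omega⟩ with hedef
    have haa : ∀ p q, p ≠ q → Anti (a p) (a q) := fun p q h => ha _ _ (h4 p q h)
    have hae : ∀ p k, Anti (a p) (e k) := fun p k => ha _ _ fun h => by
      have := congrArg Fin.val h
      simp only [Fin.val_castLE] at this
      omega
    have hee : ∀ j k, j ≠ k → Anti (e j) (e k) := fun j k h => ha _ _ fun he => h (Fin.ext (by
      have := congrArg Fin.val he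
      simp only at this
      omega))
    have triple : ∀ p q r : Fin 4, p ≠ q → p ≠ r → q ≠ r → a p * a q * a r * (a p * a q * a r) = 1 := by
      intro p q r hpq hpr hqr
      have hc : Commute (a r) (a p * a q) := (haa r p hpr.symm).commute_mul (haa r q hqr.symm)
      calc a p * a q * a r * (a p * a q * a r) = a p * a q * (a r * (a p * a q)) * a r := by
            simp only [mul_assoc]
        _ = (a p * a q) * (a p * a q) * (a r * a r) := by rw [hc.eq]; simp only [mul_assoc]
        _ = a p * (a q * a p) * a q * (a r * a r) := by simp only [mul_assoc]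
        _ = -((a p * a p) * (a q * a q) * (a r * a r)) := by
            rw [(haa q p hpq.symm)]; simp only [mul_neg, neg_mul, mul_assoc]
        _ = 1 := by simp only [hadef, hneg]; simp
    set T := a 1 * a 2 * a 3 with hTdef
    set T' := a 0 * a 2 * a 3 with hT'def
    have hT'e : ∀ k, Anti T' (e k) := fun k => by
      refine Anti.symm ?_
      rw [hT'def]
      exact Anti.commute_left_mul ((hae 0 k).symm.commute_mul (hae 2 k).symm) (hae 3 k).symm
    let B : Fin (l + 1 + 1) → V →ₗ[ZMod 3] V :=
      Fin.cons (a 1 * a 2) (Fin.cons (a 1 * a 3) fun k => T' * e k)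
    have h12 : Anti (a 1 * a 2) (a 1 * a 3) :=
      anti_translate (haa 1 2 (by decide)) (haa 1 3 (by decide)) (haa 2 3 (by decide))
    have hxT' : ∀ q : Fin 4, (q = 2 ∨ q = 3) → ∀ k, Anti (a 1 * a q) (T' * e k) := by
      intro q hq k
      refine Anti.mul_of_commute ?_ ((hae 1 k).symm.commute_mul (hae q k).symm).symm
      have h1 : Anti (a 1) T' := Anti.commute_left_mul
        ((haa 1 0 (by decide)).commute_mul (haa 1 2 (by decide))) (haa 1 3 (by decide))
      have h2 : Commute (a q) T' := by
        rcases hq with rfl | rfl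
        · exact ((haa 2 0 (by decide)).mul_of_commute (Commute.refl _)).commute_mul (haa 2 3 (by decide))
        · exact ((haa 3 0 (by decide)).commute_mul (haa 3 2 (by decide))).mul_right (Commute.refl _)
      show a 1 * a q * T' = -(T' * (a 1 * a q))
      rw [mul_assoc, h2.eq, ← mul_assoc, h1, neg_mul, mul_assoc]
    refine step T (a 0) B (triple 1 2 3 (by decide) (by decide) (by decide)) (Or.inr (hneg _))
      (Anti.commute_left_mul ((haa 0 1 (by decide)).commute_mul (haa 0 2 (by decide))) (haa 0 3 (by decide)))
      ?_ ?_ ?_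
    · intro i
      induction i using Fin.cases with
      | zero => exact mul_sq_of_anti (haa 1 2 (by decide)) (Or.inr (hneg _)) (Or.inr (hneg _))
      | succ i =>
        induction i using Fin.cases with
        | zero => exact mul_sq_of_anti (haa 1 3 (by decide)) (Or.inr (hneg _)) (Or.inr (hneg _))
        | succ k =>
          exact mul_sq_of_anti (hT'e k) (Or.inl (triple 0 2 3 (by decide) (by decide) (by decide)))
            (Or.inr (hneg _))
    · intro i j hij
      induction i using Fin.cases with
      | zero =>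
        induction j using Fin.cases with
        | zero => exact absurd rfl hij
        | succ j =>
          induction j using Fin.cases with
          | zero => exact h12
          | succ k => exact hxT' 2 (Or.inl rfl) k
      | succ i =>
        induction i using Fin.cases with
        | zero =>
          induction j using Fin.cases with
          | zero => exact h12.symm
          | succ j =>
            induction j using Fin.cases with
            | zero => exact absurd rfl hij
            | succ k => exact hxT' 3 (Or.inr rfl) k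
        | succ p =>
          induction j using Fin.cases with
          | zero => exact (hxT' 2 (Or.inl rfl) p).symm
          | succ j =>
            induction j using Fin.cases with
            | zero => exact (hxT' 3 (Or.inr rfl) p).symm
            | succ q =>
              exact anti_translate (hT'e p) (hT'e q) (hee p q fun h => hij (by rw [h]))
    · intro i
      induction i using Fin.cases with
      | zero =>
        exact (Commute.refl _).mul_right
          ((haa 3 1 (by decide)).commute_mul (haa 3 2 (by decide))).symm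
      | succ i =>
        induction i using Fin.cases with
        | zero =>
          have e1 : Commute (a 1) T :=
            (Anti.commute_left_mul (Commute.refl (a 1)) (haa 1 2 (by decide))).commute_mul
              (haa 1 3 (by decide))
          have e3 : Commute (a 3) T :=
            ((haa 3 1 (by decide)).commute_mul (haa 3 2 (by decide))).mul_right (Commute.refl _)
          exact e1.mul_left e3
        | succ k =>
          have e2 : Commute (a 2) T :=
            (((haa 2 1 (by decide)).mul_of_commute (Commute.refl _))).commute_mul (haa 2 3 (by decide))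
          have e3 : Commute (a 3) T :=
            ((haa 3 1 (by decide)).commute_mul (haa 3 2 (by decide))).mul_right (Commute.refl _)
          have hT0 : Anti T (a 0) := (Anti.commute_left_mul
            ((haa 0 1 (by decide)).commute_mul (haa 0 2 (by decide))) (haa 0 3 (by decide))).symm
          have hTT' : Anti T T' := (hT0.mul_of_commute e2.symm).mul_of_commute e3.symm
          have hTe : Anti T (e k) := (Anti.commute_left_mul
            ((hae 1 k).symm.commute_mul (hae 2 k).symm) (hae 3 k).symm).symm
          exact (hTT'.commute_mul hTe).symm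

end Three

end Cfsg.Agent.Lib.FischerTriality11.Linear
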