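import Cfsg.Agent.Lib.FischerTriality11.FibreTwin

/-!
# The square of a fibre divides the order of the component
-/
set_option autoImplicit false
set_option linter.style.haveILetI false

open Cfsg
open Cfsg.Agent.Lib.ThreeTranspositions

namespace Cfsg.Agent.Lib.FischerTriality11

universe u

variable {G : Type u} [Group G] {D : Set G} {L : Subgroup G} {a b : G}

/-- the centraliser of `a` in `L` -/
def cenL (L : Subgroup G) (a : G) : Subgroup G := L ⊓ Subgroup.centralizer ({a} : Set G)

/-- the orbit of `x` under conjugation by `H` -/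
def orb (H : Subgroup G) (x : G) : Set G := {y | ∃ h ∈ H, h * x * h⁻¹ = y}

/-- the stabiliser of `x` in `H` -/
def stab (H : Subgroup G) (x : G) : Subgroup H :=
  (Subgroup.centralizer ({x} : Set G)).subgroupOf H

theorem ncard_orb [Finite G] (H : Subgroup G) (x : G) : (orb H x).ncard = (stab H x).index := by
  letI : MulAction H G := MulAction.compHom G ((ConjAct.toConjAct (G := G)).toMonoidHom.comp H.subtype)
  have hsmul : ∀ (h : H) (y : G), h • y = (h : G) * y * (h : G)⁻¹ := fun h y => rfl
  have e1 : orb H x = MulAction.orbit H x := by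
    ext y
    constructor
    · rintro ⟨h, hh, rfl⟩; exact ⟨⟨h, hh⟩, rfl⟩
    · rintro ⟨h, rfl⟩; exact ⟨h, h.2, (hsmul h x).symm⟩
  have e2 : stab H x = MulAction.stabilizer H x := by
    ext h
    rw [stab, Subgroup.mem_subgroupOf, Subgroup.mem_centralizer_singleton_iff,
      MulAction.mem_stabilizer_iff, hsmul, mul_inv_eq_iff_eq_mul]
  rw [e1, e2, MulAction.index_stabilizer]

namespace Setup

variable (S : Setup D L) (ha : a ∈ D) (hb : b ∈ D) (hba : b ∉ fib D L a)
include S ha hb hba

/-- A commuting pair of the second fibre is joined by an element of `L` centralising `a`. -/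
theorem exists_cen_conj {x y : G} (hx : x ∈ fib D L b) (hy : y ∈ fib D L b) (hxy : Commute x y) :
    ∃ w ∈ cenL L a, w * x * w⁻¹ = y := by
  have hS := S.tset
  have hnot : ∀ z ∈ fib D L b, ¬ Commute z a := fun z hz h => by
    have h1 := S.same_of_commute hz.1 ha h
    rw [fib_eq hz] at h1
    exact hba (symm_mem_fib h1 hb)
  have hbx := braid hS hx.1 ha (hnot x hx)
  have hby := braid hS hy.1 ha (hnot y hy)
  have hL : x * y ∈ L := S.mul_mem_L hb hx hy
  set u := x * y with hu
  set z := u * a * u⁻¹ with hz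
  have hzD : z ∈ D := S.closed.2 u a ha
  have hz' : z = x * (a * y * a) * x := by
    rw [hz, hu, mul_inv_rev, inv_eq hS hx.1, inv_eq hS hy.1, ← hby]
    simp only [mul_assoc]
  have hwL : z * a ∈ L := by
    have := L.mul_mem hL (S.normal.conj_mem _ (L.inv_mem hL) a)
    rw [inv_eq hS ha] at this
    rwa [hz, show u * a * u⁻¹ * a = u * (a * u⁻¹ * a) by simp only [mul_assoc]]
  have hza : Commute z a := by
    have h1 : Commute (a * y * a) (a * x * a) := by
      have := (Commute.conj_iff a).2 hxy.symm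
      rwa [inv_eq hS ha] at this
    have h2 := (Commute.conj_iff x).2 h1
    rw [inv_eq hS hx.1, ← hz'] at h2
    have e : x * (a * x * a) * x = a := by
      rw [← hbx]
      simp only [mul_assoc, mul_self_assoc hS hx.1, mul_self hS hx.1, mul_one]
    rwa [e] at h2
  refine ⟨z * a, ⟨hwL, Subgroup.mem_centralizer_singleton_iff.2 ?_⟩, ?_⟩
  · exact (hza.mul_left (Commute.refl a)).eq
  · rw [mul_inv_rev, inv_eq hS ha, inv_eq hS hzD]
    have e1 : a * x * a = x * a * x := hbx.symm
    calc z * a * x * (a * z) = z * (a * x * a) * z := by simp only [mul_assoc]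
      _ = x * (a * y * a) * x * (x * a * x) * (x * (a * y * a) * x) := by rw [e1, hz']
      _ = x * (a * y * (a * a) * (a * y * a)) * x := by
          simp only [mul_assoc, mul_self_assoc hS hx.1]
      _ = x * ((a * y * a) * y * a) * x := by
          rw [mul_self hS ha, mul_one]; simp only [mul_assoc]
      _ = x * ((y * a * y) * y * a) * x := by rw [← hby]
      _ = x * y * x := by
          simp only [mul_assoc, mul_self_assoc hS hy.1, mul_self_assoc hS ha]
      _ = y := by rw [hxy.eq, mul_assoc, mul_self hS hx.1, mul_one]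

variable [Finite G]

theorem fib_sub_orb : fib D L b ⊆ orb (cenL L a) b := by
  intro y hy
  have hP := S.prim hb
  obtain ⟨p, hp, q, hq, hpq, hc⟩ := hP.hw
  have hconn := connected_of_primitive (class_of_primitive hP.hD hP.hprim) hP.hprim
    ⟨p, hp, q, hq, hpq.symm, hc⟩
  obtain ⟨w⟩ := hconn.preconnected ⟨⟨b, self_mem_grp⟩, self_mem_fib hb⟩ ⟨⟨y, fib_subset_grp hy⟩, hy⟩
  suffices h : ∀ {r s : fibSet D L b}, (commutingGraph (fibSet D L b)).Walk r s →
      ∃ k ∈ cenL L a, k * ((r : ↥(grp L b)) : G) * k⁻¹ = ((s : ↥(grp L b)) : G) from h w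
  intro r s w
  induction w with
  | nil => exact ⟨1, one_mem _, by simp⟩
  | @cons r m s hrm _ ih =>
    obtain ⟨k, hk, hks⟩ := ih
    have hc : Commute ((r : ↥(grp L b)) : G) ((m : ↥(grp L b)) : G) := by
      rcases hrm.2 with h | h
      · exact congrArg Subtype.val h.eq
      · exact congrArg Subtype.val h.symm.eq
    obtain ⟨j, hj, hjm⟩ := S.exists_cen_conj ha hb hba r.2 m.2 hc
    exact ⟨k * j, mul_mem hk hj, by rw [← hks, ← hjm]; group⟩

theorem sq_dvd : (fib D L a).ncard ^ 2 ∣ Nat.card L := by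
  haveI := S.normal
  have horbA : orb L a = fib D L a := by
    ext x
    exact ⟨fun ⟨l, hl, h⟩ => h ▸ S.conj_mem_fib_self ha (le_grp hl), S.exists_conj_mem_L ha⟩
  have horbB : orb (cenL L a) b = fib D L b := by
    refine Set.Subset.antisymm ?_ (S.fib_sub_orb ha hb hba)
    rintro _ ⟨l, hl, rfl⟩
    exact S.conj_mem_fib_self hb (le_grp hl.1)
  have hsame : (fib D L b).ncard = (fib D L a).ncard := by
    obtain ⟨g, rfl⟩ := class_exists_conj S.cls ha hb
    have himg : fib D L (g * a * g⁻¹) = (fun x => g * x * g⁻¹) '' fib D L a := by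
      refine Set.Subset.antisymm (fun x hx => ?_) ?_
      · refine ⟨g⁻¹ * x * g, ?_, by group⟩
        have := S.conj_mem_fib g⁻¹ hx
        rwa [show g⁻¹ * (g * a * g⁻¹) * g⁻¹⁻¹ = a by group, inv_inv] at this
      · rintro _ ⟨x, hx, rfl⟩; exact S.conj_mem_fib g hx
    rw [himg, Set.ncard_image_of_injective _ fun x y h => conj_injective h]
  have h1 := ncard_orb L a
  have h2 := ncard_orb (cenL L a) b
  rw [horbA] at h1
  rw [horbB, hsame] at h2
  have hstab : Nat.card (stab L a) = Nat.card (cenL L a) := by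
    refine (Nat.card_congr (Equiv.ofBijective (fun k : cenL L a =>
      (⟨⟨k, k.2.1⟩, k.2.2⟩ : stab L a)) ⟨?_, ?_⟩)).symm
    · intro k k' h
      exact Subtype.ext (congrArg (fun x : stab L a => ((x : L) : G)) h)
    · rintro ⟨⟨k, hk⟩, hk'⟩
      exact ⟨⟨k, hk, hk'⟩, rfl⟩
  have h3 := Subgroup.card_mul_index (stab L a)
  rw [← h1, hstab] at h3
  rw [pow_two, ← h3]
  exact mul_dvd_mul_right (h2 ▸ Subgroup.index_dvd_card _) _

end Setup

end Cfsg.Agent.Lib.FischerTriality11
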