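import Cfsg.Agent.Lib.FischerTriality11.Dispatch
import Cfsg.Agent.Lib.FischerTriality11.Orbit

/-!
# A disconnected commuting graph means triality

Given Fischer's theorem, the quotient by the component is symmetric of degree three and the
component is `Ω⁺(8,2)` or `PΩ⁺(8,3)`.
-/
set_option autoImplicit false
set_option linter.style.haveILetI false

open Cfsg
open Cfsg.Agent.Lib.ThreeTranspositions

namespace Cfsg.Agent.Lib.FischerTriality11

universe u

theorem perm_three_of_pair {A : Type*} [Group A] {p q : A} (hp : p * p = 1) (hq : q * q = 1)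
    (hgen : Subgroup.closure ({p, q} : Set A) = ⊤) (hr3 : (p * q) ^ 3 = 1) (hr : p * q ≠ 1) :
    Nonempty (A ≃* Equiv.Perm (Fin 3)) := by
  classical
  have hnp : ¬ Commute p q := by
    intro h
    have h2 : (p * q) ^ 2 = 1 := sq_eq_one_of_commute hp hq h
    rw [pow_succ, h2, one_mul] at hr3
    exact hr hr3
  set r := p * q with hrdef
  have hpi : p⁻¹ = p := inv_eq_of_mul_eq_one_left hp
  have hqi : q⁻¹ = q := inv_eq_of_mul_eq_one_left hq
  have hr1 : r * r = q * p := by
    have : r * r = r⁻¹ := eq_inv_of_mul_eq_one_left (by rw [← hr3, pow_three'])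
    rw [this, hrdef, mul_inv_rev, hpi, hqi]
  have hbr : p * q * p = q * p * q := by
    have h := congrArg (fun x => x * q) hr1
    simp only [hrdef, mul_assoc] at h ⊢
    rw [hq, mul_one] at h
    exact h
  -- the six elements, closed under left multiplication by the generators
  let S : Finset A := {1, p, q, p * q, q * p, p * q * p}
  have hmem : ∀ x : A, x ∈ S ↔ x = 1 ∨ x = p ∨ x = q ∨ x = p * q ∨ x = q * p ∨ x = p * q * p := by
    intro x
    simp only [S, Finset.mem_insert, Finset.mem_singleton]
  have hclosed : ∀ g ∈ ({p, q} : Set A), ∀ x ∈ S, g * x ∈ S := by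
    intro g hg x hx
    rw [hmem] at hx ⊢
    rcases hg with rfl | hg
    · rcases hx with rfl | rfl | rfl | rfl | rfl | rfl
      · simp
      · left; exact hp
      · simp
      · right; right; left; rw [← mul_assoc, hp, one_mul]
      · right; right; right; right; right; rw [mul_assoc]
      · right; right; right; right; left; rw [← mul_assoc, ← mul_assoc, hp, one_mul]
    · rw [Set.mem_singleton_iff] at hg
      subst hg
      rcases hx with rfl | rfl | rfl | rfl | rfl | rfl
      · simp
      · simp
      · left; exact hq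
      · right; right; right; right; right; rw [hbr, mul_assoc]
      · right; left; rw [← mul_assoc, hq, one_mul]
      · right; right; right; left; rw [hbr, ← mul_assoc, ← mul_assoc, hq, one_mul]
  have hall : ∀ x : A, x ∈ S := by
    intro x
    have h1 : ∀ g ∈ Subgroup.closure ({p, q} : Set A), ∀ y ∈ S, g * y ∈ S := by
      intro g hg
      induction hg using Subgroup.closure_induction'' with
      | one => intro y hy; rwa [one_mul]
      | mem g hg => exact hclosed g hg
      | inv_mem g hg =>
        intro y hy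
        have : g⁻¹ = g := by
          rcases hg with rfl | hg
          · exact hpi
          · rw [Set.mem_singleton_iff] at hg; rw [hg]; exact hqi
        rw [this]; exact hclosed g hg y hy
      | mul g g' _ _ h h' => intro y hy; rw [mul_assoc]; exact h _ (h' y hy)
    have := h1 x (hgen ▸ Subgroup.mem_top x) 1 ((hmem 1).2 (Or.inl rfl))
    rwa [mul_one] at this
  haveI : Fintype A := ⟨S, hall⟩
  have hle : Fintype.card A ≤ 6 := by
    calc Fintype.card A = (Finset.univ : Finset A).card := Finset.card_univ.symm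
      _ ≤ S.card := Finset.card_le_card fun x _ => hall x
      _ ≤ 6 := Finset.card_le_six
  -- the action on the three involutions
  have h3 : orderOf r = 3 := orderOf_eq_prime hr3 hr
  have hp2 : orderOf p = 2 := orderOf_eq_prime (by rw [pow_two, hp]) fun h => hnp (h ▸ Commute.one_left q)
  have hd3 : 3 ∣ Fintype.card A := h3 ▸ orderOf_dvd_card
  have hd2 : 2 ∣ Fintype.card A := hp2 ▸ orderOf_dvd_card
  have hcard : Fintype.card A = 6 := by
    have hd6 : 6 ∣ Fintype.card A := Nat.Coprime.mul_dvd_of_dvd_of_dvd (by norm_num) hd2 hd3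
    have := Nat.le_of_dvd Fintype.card_pos hd6
    omega
  let H := Subgroup.zpowers p
  let act : A →* Equiv.Perm (A ⧸ H) := MulAction.toPermHom A (A ⧸ H)
  have hinj : Function.Injective act := by
    rw [← MonoidHom.ker_eq_bot_iff, eq_bot_iff]
    intro k hk
    rw [Subgroup.mem_bot]
    have hfix : ∀ g : A, g⁻¹ * k * g ∈ H := fun g => by
      have h : k • (QuotientGroup.mk g : A ⧸ H) = QuotientGroup.mk g := by
        have := congrArg (fun σ : Equiv.Perm (A ⧸ H) => σ (QuotientGroup.mk g)) (MonoidHom.mem_ker.1 hk)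
        simpa [act] using this
      rw [MulAction.Quotient.smul_mk, QuotientGroup.eq, smul_eq_mul] at h
      have := H.inv_mem h
      convert this using 1
      group
    have hH : ∀ z ∈ H, z = 1 ∨ z = p := by
      intro z hz
      obtain ⟨i, rfl⟩ := Subgroup.mem_zpowers_iff.1 hz
      rcases Int.even_or_odd i with ⟨j, rfl⟩ | ⟨j, rfl⟩
      · left; rw [zpow_add, ← (Commute.refl p).mul_zpow, hp, one_zpow]
      · right; rw [zpow_add, zpow_one, zpow_mul, show p ^ (2 : ℤ) = 1 by rw [zpow_two, hp], one_zpow, one_mul]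
    rcases hH _ (by simpa using hfix 1) with h | h
    · exact h
    · exfalso
      rcases hH _ (hfix q) with h' | h'
      · rw [h, hqi] at h'
        exact hnp (by
          have hp1 : p = 1 := by
            calc p = q * (q * p * q) * q := by simp only [mul_assoc, hq, mul_one]; rw [← mul_assoc, hq, one_mul]
              _ = 1 := by rw [h', mul_one, hq]
          rw [hp1]; exact Commute.one_left q)
      · rw [h, hqi] at h'
        exact hnp (by
          show p * q = q * p
          calc p * q = q * p * q * q := by rw [h']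
            _ = q * p := by rw [mul_assoc, hq, mul_one])
  have hidx : Fintype.card (A ⧸ H) = 3 := by
    have h := H.card_mul_index
    rw [Nat.card_zpowers, hp2, Nat.card_eq_fintype_card, hcard, Subgroup.index,
      Nat.card_eq_fintype_card] at h
    omega
  let e := Fintype.equivFinOfCardEq hidx
  let f : A →* Equiv.Perm (Fin 3) := e.permCongrHom.toMonoidHom.comp act
  have hfb : Function.Bijective f := by
    rw [Fintype.bijective_iff_injective_and_card]
    exact ⟨e.permCongrHom.injective.comp hinj, by rw [hcard, Fintype.card_perm, Fintype.card_fin]; rfl⟩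
  exact ⟨MulEquiv.ofBijective f hfb⟩

variable {G : Type u} [Group G] {D : Set G} {L : Subgroup G}

theorem Setup.exists_other (S : Setup D L) {a : G} (ha : a ∈ D) : ∃ b ∈ D, b ∉ fib D L a := by
  by_contra hcon
  push Not at hcon
  haveI := S.normal
  have hle : ∀ z : G ⧸ L, z ∈ Subgroup.zpowers (QuotientGroup.mk a : G ⧸ L) := by
    intro z
    obtain ⟨g, rfl⟩ := QuotientGroup.mk_surjective z
    have h : Subgroup.closure D ≤ grp L a := by
      rw [Subgroup.closure_le]
      exact fun y hy => fib_subset_grp (hcon y hy)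
    exact grp_map (h (S.cls.2.2 ▸ Subgroup.mem_top g))
  have hlt := S.idx
  rw [Subgroup.index, Nat.card_congr (Equiv.subtypeUnivEquiv hle).symm,
    show Nat.card {z // z ∈ Subgroup.zpowers (QuotientGroup.mk a : G ⧸ L)} =
      orderOf (QuotientGroup.mk a : G ⧸ L) from Nat.card_zpowers _] at hlt
  have hd : orderOf (QuotientGroup.mk a : G ⧸ L) ∣ 2 := orderOf_dvd_of_pow_eq_one (by
    rw [pow_two, ← QuotientGroup.mk_mul, mul_self S.tset ha, QuotientGroup.mk_one])
  have := Nat.le_of_dvd (by norm_num) hd
  omega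

theorem triality (hmain : FischerThm.Main.{u}) [Finite G] (hD : IsThreeTranspositionClass D)
    (hZ : Subgroup.center G = ⊥) (h2 : pCore 2 G = ⊥) (h3 : pCore 3 G = ⊥)
    (hdisc : ¬ (commutingGraph D).Connected) (F : Subgroup G) [F.Normal]
    (hF : F = generalizedFittingSubgroup G) :
    Nonempty (G ⧸ F ≃* Equiv.Perm (Fin 3)) ∧
      (Nonempty (F ≃* Omega (ZMod 2) (quadFormPlus 4 (ZMod 2))) ∨
        Nonempty (F ≃* POmega (ZMod 3) (quadFormPlus 4 (ZMod 3)))) := by
  obtain ⟨L, S⟩ := exists_setup hD hZ h2 h3 hdisc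
  obtain rfl : F = L := hF.trans S.gf
  have hS := S.tset
  obtain ⟨a, ha⟩ : D.Nonempty := by
    obtain ⟨p, hp, -⟩ := S.pair
    exact ⟨p, hp⟩
  obtain ⟨b, hb, hba⟩ := S.exists_other ha
  have hP := S.prim ha
  have hconj : ∀ d ∈ D, d ∉ fib D F a → ∃ g, g * a * g⁻¹ = d ∧
      Twin (fibSet D F a) (twin F a g) := by
    intro d hd hda
    obtain ⟨g, rfl⟩ := class_exists_conj S.cls ha hd
    exact ⟨g, rfl, S.twin_spec ha g hda⟩
  obtain ⟨g, hg, T⟩ := hconj b hb hba
  have hdvd : (fibSet D F a).ncard ^ 2 ∣ Nat.card ↥(grp F a) := by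
    have e : (fibSet D F a).ncard = (fib D F a).ncard := by
      rw [← Set.ncard_image_of_injective _ (grp F a).subtype_injective]
      congr 1
      ext x
      exact ⟨fun ⟨y, hy, h⟩ => h ▸ hy, fun hx => ⟨⟨x, fib_subset_grp hx⟩, hx, rfl⟩⟩
    rw [e]
    exact (S.sq_dvd ha hb hba).trans (Subgroup.card_dvd_of_le le_grp)
  have hshape := shape_of_twin hP (hmain _ _ hP) T hdvd
  refine ⟨?_, ?_⟩
  · -- exactly three fibres
    have hnab : ¬ Commute a b := fun h => hba (S.same_of_commute ha hb h)
    have hcD : a * b * a ∈ D := third_mem S.closed ha hb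
    have hmk : ∀ {x y : G}, (x : G ⧸ F) = y → y ∈ D → y ∈ fib D F x :=
      fun h hy => ⟨hy, QuotientGroup.eq.1 h⟩
    have hpa : (a : G ⧸ F) * a = 1 := by rw [← QuotientGroup.mk_mul, mul_self hS ha, QuotientGroup.mk_one]
    have hpb : (b : G ⧸ F) * b = 1 := by rw [← QuotientGroup.mk_mul, mul_self hS hb, QuotientGroup.mk_one]
    have hne1 : ((a : G ⧸ F)) * b ≠ 1 := fun h => hba (hmk (by
      calc (a : G ⧸ F) = a * (b * b) := by rw [hpb, mul_one]
        _ = b := by rw [← mul_assoc, h, one_mul]) hb)
    have hcube : ((a : G ⧸ F) * b) ^ 3 = 1 := by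
      rw [← QuotientGroup.mk_mul, ← QuotientGroup.mk_pow, cube_eq_one hS ha hb hnab, QuotientGroup.mk_one]
    have hca : a * b * a ∉ fib D F a := fun h => hne1 (by
      have e := QuotientGroup.eq.2 h.2
      rw [QuotientGroup.mk_mul, QuotientGroup.mk_mul] at e
      have := congrArg (fun z : G ⧸ F => z * (a : G ⧸ F)) e
      simp only [mul_assoc, hpa, mul_one] at this
      exact this.symm)
    have hcb : a * b * a ∉ fib D F b := fun h => hne1 (by
      have e := QuotientGroup.eq.2 h.2
      rw [QuotientGroup.mk_mul, QuotientGroup.mk_mul] at e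
      have h2 : ((a : G ⧸ F) * b) * ((a : G ⧸ F) * b) = 1 := by
        rw [← hpb]
        nth_rw 3 [e]
        simp only [mul_assoc]
      rwa [pow_succ, pow_two, h2, one_mul] at hcube)
    have hthree : ∀ d ∈ D, d ∈ fib D F a ∨ d ∈ fib D F b ∨ d ∈ fib D F (a * b * a) := by
      intro d hd
      by_contra hcon
      push Not at hcon
      obtain ⟨hda, hdb, hdc⟩ := hcon
      obtain ⟨g₂, hg₂, T₂⟩ := hconj _ hcD hca
      obtain ⟨g₃, hg₃, T₃⟩ := hconj d hd hda
      have hsym : ∀ {x y : G}, x ∈ D → y ∉ fib D F x → ∀ _ : y ∈ D, x ∉ fib D F y :=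
        fun hx hn hy h => hn (symm_mem_fib h hy)
      refine hshape.no_three hP ![twin F a g, twin F a g₂, twin F a g₃]
        (fun i => by fin_cases i <;> assumption) fun i j hij => ?_
      have e12 : g₂ * a * g₂⁻¹ ∉ fib D F (g * a * g⁻¹) := by rw [hg, hg₂]; exact hcb
      have e13 : g₃ * a * g₃⁻¹ ∉ fib D F (g * a * g⁻¹) := by rw [hg, hg₃]; exact hdb
      have e23 : g₃ * a * g₃⁻¹ ∉ fib D F (g₂ * a * g₂⁻¹) := by rw [hg₂, hg₃]; exact hdc
      have e21 : g * a * g⁻¹ ∉ fib D F (g₂ * a * g₂⁻¹) := by
        rw [hg, hg₂]; exact hsym hb hcb hcD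
      have e31 : g * a * g⁻¹ ∉ fib D F (g₃ * a * g₃⁻¹) := by
        rw [hg, hg₃]; exact hsym hb hdb hd
      have e32 : g₂ * a * g₂⁻¹ ∉ fib D F (g₃ * a * g₃⁻¹) := by
        rw [hg₂, hg₃]; exact hsym hcD hdc hd
      fin_cases i <;> fin_cases j <;> first
        | exact absurd rfl hij
        | exact S.twin_apart ha _ (by assumption)
    refine perm_three_of_pair hpa hpb ?_ hcube hne1
    rw [eq_top_iff]
    intro z _
    obtain ⟨x, rfl⟩ := QuotientGroup.mk_surjective z
    have hle : Subgroup.closure D ≤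
        (Subgroup.closure ({(a : G ⧸ F), (b : G ⧸ F)} : Set (G ⧸ F))).comap (QuotientGroup.mk' F) := by
      rw [Subgroup.closure_le]
      intro d hd
      show QuotientGroup.mk' F d ∈ Subgroup.closure ({(a : G ⧸ F), (b : G ⧸ F)} : Set (G ⧸ F))
      rw [QuotientGroup.mk'_apply]
      have hA := Subgroup.subset_closure (show (a : G ⧸ F) ∈ ({(a : G ⧸ F), (b : G ⧸ F)} : Set (G ⧸ F)) from Or.inl rfl)
      have hB := Subgroup.subset_closure (show (b : G ⧸ F) ∈ ({(a : G ⧸ F), (b : G ⧸ F)} : Set (G ⧸ F)) from Or.inr rfl)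
      rcases hthree d hd with h | h | h <;> rw [← QuotientGroup.eq.2 h.2]
      · exact hA
      · exact hB
      · rw [QuotientGroup.mk_mul, QuotientGroup.mk_mul]
        exact mul_mem (mul_mem hA hB) hA
    exact hle (S.cls.2.2 ▸ Subgroup.mem_top x)
  · have eL : commutator ↥(grp F a) ≃* F :=
      (MulEquiv.subgroupCongr S.commutator_grp).trans (Subgroup.subgroupOfEquivOfLe le_grp)
    rcases hshape.commutator_iso hP T with h | h
    · exact Or.inl (h.elim fun e => ⟨eL.symm.trans e⟩)
    · exact Or.inr (h.elim fun e => ⟨eL.symm.trans e⟩)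

end Cfsg.Agent.Lib.FischerTriality11
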