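import Cfsg.Agent.Lib.Forms.Quad
import Cfsg.Agent.Lib.FischerTriality11.Linear
import Cfsg.Agent.Lib.FischerTriality11.Twin

/-!
# Projective orthogonal models over three elements

A model sends the group to endomorphisms, multiplicatively up to sign, with the class going to the
reflections in vectors of one norm.  An involution centralising no such reflection squares to
minus one; a twin of an orthogonal frame gives anticommuting square roots of minus one.
-/
set_option autoImplicit false
set_option linter.unusedSectionVars false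

open Module QuadraticMap
open Cfsg.Agent.Lib.Forms

namespace Cfsg.Agent.Lib.FischerTriality11.OThree

universe u

variable {V : Type} [AddCommGroup V] [Module (ZMod 3) V] {Q : QuadraticForm (ZMod 3) V} {c : ZMod 3}

/-- equal up to sign -/
def Pm {A : Type*} [Neg A] (x y : A) : Prop := x = y ∨ x = -y

section Sign

variable {R : Type*} [Ring R] {x y z w : R}

theorem Pm.refl (x : R) : Pm x x := Or.inl rfl

theorem Pm.symm (h : Pm x y) : Pm y x := by
  rcases h with rfl | rfl
  · exact Or.inl rfl
  · exact Or.inr (neg_neg y).symm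

theorem Pm.trans (h : Pm x y) (h' : Pm y z) : Pm x z := by
  rcases h with rfl | rfl <;> rcases h' with rfl | rfl
  · exact Or.inl rfl
  · exact Or.inr rfl
  · exact Or.inr rfl
  · exact Or.inl (neg_neg z)

theorem Pm.mul (h : Pm x y) (h' : Pm z w) : Pm (x * z) (y * w) := by
  rcases h with rfl | rfl <;> rcases h' with rfl | rfl
  · exact Or.inl rfl
  · exact Or.inr (by rw [mul_neg])
  · exact Or.inr (by rw [neg_mul])
  · exact Or.inl (by rw [neg_mul_neg])

theorem Pm.sq (h : Pm x y) : x * x = y * y := by
  rcases h with rfl | rfl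
  · rfl
  · rw [neg_mul_neg]

end Sign

theorem two_ne : (2 : ZMod 3) ≠ 0 := by decide

theorem pm_one : ∀ s : ZMod 3, s * s = 1 → s = 1 ∨ s = -1 := by decide

theorem reflMap_fix {v x : V} (h : polar Q v x = 0) : reflMap Q v x = x := by
  rw [reflMap_apply, h, mul_zero, zero_smul, sub_zero]

theorem reflMap_self {v : V} (h : Q v ≠ 0) : reflMap Q v v = -v := refl_self Q h

theorem reflMap_neg (v : V) : reflMap Q (-v) = reflMap Q v := by
  refine LinearMap.ext fun x => ?_
  rw [reflMap_apply, reflMap_apply, QuadraticMap.map_neg, polar_neg_left]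
  module

theorem reflMap_sq (v : V) : reflMap Q v * reflMap Q v = 1 :=
  LinearMap.ext fun x => reflMap_involutive Q v x

theorem eq_zero_of_neg {x : V} (h : x = -x) : x = 0 := by
  have : (2 : ZMod 3) • x = 0 := by rw [two_smul]; nth_rw 1 [h]; exact neg_add_cancel x
  exact (smul_eq_zero.1 this).resolve_left two_ne

theorem reflMap_commute {x y : V} (h : polar Q x y = 0) :
    reflMap Q x * reflMap Q y = reflMap Q y * reflMap Q x := by
  refine LinearMap.ext fun z => ?_
  show reflMap Q x (reflMap Q y z) = reflMap Q y (reflMap Q x z)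
  have h' : polar Q y x = 0 := (polar_comm Q y x).trans h
  simp only [reflMap_apply, polar_sub_right, polar_smul_right, h, h', smul_zero, sub_zero]
  abel

variable [FiniteDimensional (ZMod 3) V]

theorem exists_orth_vec (hQ : Nondeg Q) (hn : 5 ≤ finrank (ZMod 3) V) (a b d e : V) :
    ∃ v, v ≠ 0 ∧ polar Q a v = 0 ∧ polar Q b v = 0 ∧ polar Q d v = 0 ∧ polar Q e v = 0 := by
  let f : V →ₗ[ZMod 3] (ZMod 3 × ZMod 3) × (ZMod 3 × ZMod 3) :=
    ((polarBilin Q a).prod (polarBilin Q b)).prod ((polarBilin Q d).prod (polarBilin Q e))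
  have h1 := LinearMap.finrank_range_add_finrank_ker f
  have h3 := Submodule.finrank_le (LinearMap.range f)
  simp only [finrank_prod, finrank_self] at h3
  have : Nontrivial (LinearMap.ker f) :=
    Module.nontrivial_of_finrank_pos (R := ZMod 3) (by omega)
  obtain ⟨⟨w, hw⟩, hw0⟩ := exists_ne (0 : LinearMap.ker f)
  have h := LinearMap.mem_ker.1 hw
  exact ⟨w, fun h' => hw0 (Subtype.ext h'), congrArg (fun p => p.1.1) h, congrArg (fun p => p.1.2) h,
    congrArg (fun p => p.2.1) h, congrArg (fun p => p.2.2) h⟩

theorem reflMap_inj (hQ : Nondeg Q) (hn : 5 ≤ finrank (ZMod 3) V) {x y : V} (hc : c ≠ 0)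
    (hx : Q x = c) (hy : Q y = c) (h : Pm (reflMap Q x) (reflMap Q y)) : Pm x y := by
  rcases h with h | h
  · have e := LinearMap.congr_fun h x
    rw [reflMap_self (hx ▸ hc), reflMap_apply] at e
    have e2 : (2 : ZMod 3) • x = ((Q y)⁻¹ * polar Q y x) • y := by
      linear_combination (norm := module) -e
    have e3 : x = ((2 : ZMod 3) * ((Q y)⁻¹ * polar Q y x)) • y := by
      rw [mul_smul, ← e2, smul_smul, show (2 : ZMod 3) * 2 = 1 by decide, one_smul]
    set s := (2 : ZMod 3) * ((Q y)⁻¹ * polar Q y x)
    have hs : s * s = 1 := by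
      have hQx := congrArg Q e3
      rw [hx, Q_smul, hy] at hQx
      exact mul_right_cancel₀ hc (by rw [← hQx, one_mul])
    rcases pm_one s hs with h1 | h1 <;> rw [h1] at e3
    · exact Or.inl (by rw [e3, one_smul])
    · exact Or.inr (by rw [e3, neg_one_smul])
  · obtain ⟨v, hv, h1, h2, -, -⟩ := exists_orth_vec hQ hn x y x y
    have e := LinearMap.congr_fun h v
    rw [LinearMap.neg_apply, reflMap_fix h1, reflMap_fix h2] at e
    exact absurd (eq_zero_of_neg e) hv

/-- Every non-zero value is taken orthogonally to a frame leaving two dimensions. -/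
theorem exists_frame : ∀ (k : ℕ) {W : Type} [AddCommGroup W] [Module (ZMod 3) W]
    [FiniteDimensional (ZMod 3) W] (P : QuadraticForm (ZMod 3) W), Nondeg P →
    k + 1 ≤ finrank (ZMod 3) W → c ≠ 0 →
    ∃ f : Fin k → W, (∀ i, P (f i) = c) ∧ ∀ i j, i ≠ j → polar P (f i) (f j) = 0 := by
  intro k
  induction k with
  | zero =>
    intro W _ _ _ P _ _ _
    exact ⟨Fin.elim0, fun i => i.elim0, fun i => i.elim0⟩
  | succ k ih =>
    intro W _ _ _ P hP hk hc
    obtain ⟨v, hv⟩ := exists_Q_eq hP (show 2 ≤ finrank (ZMod 3) _ by omega) c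
    let K := LinearMap.ker (polarBilin P v)
    have h2v : (2 : ZMod 3) * P v ≠ 0 := mul_ne_zero two_ne (hv ▸ hc)
    have hK : Nondeg (res P K) := by
      intro x hx
      refine Subtype.ext (hP _ fun y => ?_)
      have hax : polar P v (x : _) = 0 := x.2
      have hy : y - (polar P v y / (2 * P v)) • v ∈ K := by
        show polar P v _ = 0
        rw [polar_sub_right, polar_smul_right, polar_self', smul_eq_mul, div_mul_cancel₀ _ h2v,
          sub_self]
      have h0 := hx ⟨_, hy⟩
      rw [res_polar, polar_sub_right, polar_smul_right, polar_comm P (x : _) v, hax,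
        smul_zero, sub_zero] at h0
      exact h0
    have hKdim : k + 1 ≤ finrank (ZMod 3) K := by
      have h1 := LinearMap.finrank_range_add_finrank_ker (polarBilin P v)
      have h3 := Submodule.finrank_le (LinearMap.range (polarBilin P v))
      rw [finrank_self] at h3
      show k + 1 ≤ finrank (ZMod 3) (LinearMap.ker (polarBilin P v))
      omega
    obtain ⟨f, hf, hff⟩ := ih (res P K) hK hKdim hc
    refine ⟨Fin.cons v fun i => (f i : _), Fin.cases hv fun i => hf i, ?_⟩
    intro i j
    refine Fin.cases (Fin.cases (fun h => absurd rfl h) (fun j _ => (f j).2) j) (fun i => ?_) i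
    exact Fin.cases (fun _ => (polar_comm P _ _).trans (f i).2)
      (fun j h => hff i j fun e => h (by rw [e])) j

/-- With a skew square root of minus one, a full orthogonal frame of norm `c`. -/
theorem exists_full_frame : ∀ (k : ℕ) {W : Type} [AddCommGroup W] [Module (ZMod 3) W]
    [FiniteDimensional (ZMod 3) W] (P : QuadraticForm (ZMod 3) W) (J : W →ₗ[ZMod 3] W), Nondeg P →
    finrank (ZMod 3) W = 2 * k → J * J = -1 → (∀ v, P (J v) = P v) → (∀ v, polar P v (J v) = 0) →
    c ≠ 0 →
    ∃ f : Fin (2 * k) → W, (∀ i, P (f i) = c) ∧ ∀ i j, i ≠ j → polar P (f i) (f j) = 0 := by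
  intro k
  induction k with
  | zero =>
    intro W _ _ _ P J _ _ _ _ _ _
    exact ⟨Fin.elim0, fun i => i.elim0, fun i => i.elim0⟩
  | succ k ih =>
    intro W _ _ _ P J hP hdim hJ hiso hsk hc
    obtain ⟨v, hv⟩ := exists_Q_eq hP (show 2 ≤ finrank (ZMod 3) _ by omega) c
    have hJJ : ∀ x, J (J x) = -x := fun x => LinearMap.congr_fun hJ x
    have hskew : ∀ x y, polar P (J x) y = -polar P x (J y) := by
      intro x y
      have h := hsk (x + y)
      rw [map_add, polar_add_left, polar_add_right, polar_add_right, hsk, hsk, zero_add,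
        add_zero] at h
      rw [polar_comm P (J x) y]
      linear_combination h
    let K := LinearMap.ker (polarBilin P v) ⊓ LinearMap.ker (polarBilin P (J v))
    have hmem : ∀ x, x ∈ K ↔ polar P v x = 0 ∧ polar P (J v) x = 0 := fun x => Iff.rfl
    have hJv : P (J v) = c := (hiso v).trans hv
    have hvv : polar P v v = 2 * c := by rw [polar_self', hv]
    have hJvv : polar P (J v) (J v) = 2 * c := by rw [polar_self', hJv]
    have h2c : (2 : ZMod 3) * c ≠ 0 := mul_ne_zero two_ne hc
    have hvJ : polar P v (J v) = 0 := hsk v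
    have hK : Nondeg (res P K) := by
      intro x hx
      refine Subtype.ext (hP _ fun y => ?_)
      obtain ⟨hx1, hx2⟩ := (hmem _).1 x.2
      set a := polar P v y / (2 * c)
      set b := polar P (J v) y / (2 * c)
      have hy : y - a • v - b • J v ∈ K := by
        rw [hmem]
        constructor
        · rw [polar_sub_right, polar_sub_right, polar_smul_right, polar_smul_right, hvv, hvJ,
            smul_zero, sub_zero, smul_eq_mul, div_mul_cancel₀ _ h2c, sub_self]
        · rw [polar_sub_right, polar_sub_right, polar_smul_right, polar_smul_right, hJvv,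
            polar_comm P (J v) v, hvJ, smul_zero, sub_zero, smul_eq_mul, div_mul_cancel₀ _ h2c,
            sub_self]
      have h0 := hx ⟨_, hy⟩
      rw [res_polar, polar_sub_right, polar_sub_right, polar_smul_right, polar_smul_right,
        polar_comm P (x : _) v, polar_comm P (x : _) (J v), hx1, hx2, smul_zero, smul_zero,
        sub_zero, sub_zero] at h0
      exact h0
    let f := (polarBilin P v).prod (polarBilin P (J v))
    have hsurj : LinearMap.range f = ⊤ := by
      rw [eq_top_iff]
      rintro ⟨a, b⟩ -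
      refine ⟨(a / (2 * c)) • v + (b / (2 * c)) • J v, ?_⟩
      show (polar P v _, polar P (J v) _) = (a, b)
      rw [polar_add_right, polar_add_right, polar_smul_right, polar_smul_right, polar_smul_right,
        polar_smul_right, hvv, hJvv, hvJ, polar_comm P (J v) v, hvJ, smul_zero, smul_zero, add_zero,
        zero_add, smul_eq_mul, smul_eq_mul, div_mul_cancel₀ _ h2c, div_mul_cancel₀ _ h2c]
    have hKdim : finrank (ZMod 3) K = 2 * k := by
      have h1 := LinearMap.finrank_range_add_finrank_ker f
      rw [hsurj, finrank_top, finrank_prod, finrank_self, LinearMap.ker_prod] at h1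
      show finrank (ZMod 3) ↥(LinearMap.ker (polarBilin P v) ⊓ LinearMap.ker (polarBilin P (J v)))
        = 2 * k
      omega
    have hJK : ∀ x ∈ K, J x ∈ K := by
      intro x hx
      rw [hmem] at hx ⊢
      refine ⟨?_, ?_⟩
      · have := hskew v x
        rw [hx.2] at this
        exact neg_eq_zero.1 this.symm
      · rw [hskew, hJJ, polar_neg_right, neg_neg]
        exact hx.1
    obtain ⟨g, hg, hgg⟩ := ih (res P K) (J.restrict hJK) hK hKdim
      (LinearMap.ext fun x => Subtype.ext (hJJ x)) (fun x => hiso x) (fun x => hsk x) hc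
    suffices h : ∃ f : Fin (2 * k + 1 + 1) → W, (∀ i, P (f i) = c) ∧
        ∀ i j, i ≠ j → polar P (f i) (f j) = 0 by
      obtain ⟨f, hf, hff⟩ := h
      exact ⟨fun i => f (Fin.cast (by omega) i), fun i => hf _,
        fun i j hij => hff _ _ fun h => hij (Fin.cast_injective _ h)⟩
    refine ⟨Fin.cons v (Fin.cons (J v) fun i => (g i : W)),
      Fin.cases hv (Fin.cases hJv fun p => hg p), ?_⟩
    intro p q hne
    induction p using Fin.cases with
    | zero =>
      induction q using Fin.cases with
      | zero => exact absurd rfl hne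
      | succ q =>
        induction q using Fin.cases with
        | zero => exact hvJ
        | succ q => exact ((hmem _).1 (g q).2).1
    | succ p =>
      induction p using Fin.cases with
      | zero =>
        induction q using Fin.cases with
        | zero => exact (polar_comm P _ _).trans hvJ
        | succ q =>
          induction q using Fin.cases with
          | zero => exact absurd rfl hne
          | succ q => exact ((hmem _).1 (g q).2).2
      | succ p =>
        induction q using Fin.cases with
        | zero => exact (polar_comm P _ _).trans ((hmem _).1 (g p).2).1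
        | succ q =>
          induction q using Fin.cases with
          | zero => exact (polar_comm P _ _).trans ((hmem _).1 (g p).2).2
          | succ q => exact hgg p q fun h => hne (by rw [h])

/-! ### Models -/

variable {X : Type u} [Group X] {E : Set X} {lin : X → (V →ₗ[ZMod 3] V)}

/-- A projective model with the class going to the reflections of norm `c`. -/
structure Model (E : Set X) (Q : QuadraticForm (ZMod 3) V) (c : ZMod 3) (lin : X → (V →ₗ[ZMod 3] V)) :
    Prop where
  nondeg : Nondeg Q
  dim : 5 ≤ finrank (ZMod 3) V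
  ne : c ≠ 0
  iso : ∀ u v, Q (lin u v) = Q v
  mul : ∀ u w, Pm (lin (u * w)) (lin u * lin w)
  one : ∀ u, Pm (lin u) 1 → u = 1
  vec : ∀ w ∈ E, ∃ v, Q v = c ∧ Pm (lin w) (reflMap Q v)
  mem : ∀ v, Q v = c → ∃ w ∈ E, Pm (lin w) (reflMap Q v)

variable (M : Model E Q c lin)
include M

theorem Model.lin_one : Pm (lin 1) 1 := by
  have hinj : Function.Injective (lin 1) := by
    intro x y h
    refine sub_eq_zero.1 (M.nondeg _ fun z => ?_)
    have hpol : ∀ a b, polar Q (lin 1 a) (lin 1 b) = polar Q a b := fun a b => by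
      simp only [polar, ← map_add, M.iso]
    rw [← hpol, map_sub, h, sub_self, polar_zero_left]
  have hsurj := LinearMap.surjective_of_injective hinj
  have h1 := M.mul 1 1
  rw [mul_one] at h1
  rcases h1 with h | h
  · refine Or.inl (LinearMap.ext fun x => ?_)
    obtain ⟨y, rfl⟩ := hsurj x
    exact (LinearMap.congr_fun h y).symm
  · refine Or.inr (LinearMap.ext fun x => ?_)
    obtain ⟨y, rfl⟩ := hsurj x
    have := LinearMap.congr_fun h y
    rw [LinearMap.neg_apply, Module.End.one_apply]
    exact (neg_eq_iff_eq_neg.2 this).symm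

theorem Model.inj {u w : X} (h : Pm (lin u) (lin w)) : u = w := by
  have h1 : Pm (lin (u⁻¹ * w)) 1 := by
    have e1 : Pm (lin (u⁻¹ * w)) (lin u⁻¹ * lin w) := M.mul _ _
    have e2 : Pm (lin u⁻¹ * lin w) (lin u⁻¹ * lin u) := (Pm.refl _).mul h.symm
    have e3 : Pm (lin u⁻¹ * lin u) (lin 1) := by
      have := (M.mul u⁻¹ u).symm
      rwa [inv_mul_cancel] at this
    exact ((e1.trans e2).trans e3).trans M.lin_one
  exact inv_mul_eq_one.1 (M.one _ h1)

theorem Model.lin_polar (u : X) (a b : V) : polar Q (lin u a) (lin u b) = polar Q a b := by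
  simp only [polar, ← map_add, M.iso]

theorem Model.conj_refl (u : X) (v : V) :
    lin u * reflMap Q v = reflMap Q (lin u v) * lin u := by
  refine LinearMap.ext fun x => ?_
  show lin u (reflMap Q v x) = reflMap Q (lin u v) (lin u x)
  rw [reflMap_apply, reflMap_apply, map_sub, map_smul, M.iso, M.lin_polar]

theorem Model.commute_of_fix {u w : X} {v : V} (hw : Pm (lin w) (reflMap Q v))
    (h : Pm (lin u v) v) : Commute u w := by
  refine M.inj ?_
  have e1 : reflMap Q (lin u v) = reflMap Q v := by
    rcases h with h | h <;> rw [h]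
    exact reflMap_neg v
  calc Pm (lin (u * w)) (lin (w * u)) := by
        refine ((M.mul u w).trans ((Pm.refl _).mul hw)).trans ?_
        rw [M.conj_refl, e1]
        exact (hw.symm.mul (Pm.refl _)).trans (M.mul w u).symm

theorem Model.not_fix {u : X} (h : ∀ w ∈ E, ¬ Commute u w) {v : V} (hv : Q v = c) :
    ¬ Pm (lin u v) v := fun hf => by
  obtain ⟨w, hw, hwv⟩ := M.mem v hv
  exact h w hw (M.commute_of_fix hwv hf)

theorem Model.fix_invol {u : X} (hu : IsFpfInvol E u) :
    lin u * lin u = -1 ∧ ∀ v, polar Q v (lin u v) = 0 := by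
  have hsq : Pm (lin u * lin u) 1 := by
    have := (M.mul u u).symm
    rw [hu.1] at this
    exact this.trans M.lin_one
  set J := lin u with hJdef
  have hneg : J * J = -1 := by
    refine hsq.resolve_left fun hone => ?_
    have hJJ : ∀ x, J (J x) = x := fun x => LinearMap.congr_fun hone x
    -- an eigenspace of dimension at least two takes the norm
    have main : ∀ s : ZMod 3, s * s = 1 → ∀ K : Submodule (ZMod 3) V,
        (∀ x, x ∈ K ↔ J x = s • x) → 2 ≤ finrank (ZMod 3) K → False := by
      intro s hs K hK hdim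
      have hnd : Nondeg (res Q K) := by
        intro x hx
        refine Subtype.ext (M.nondeg _ fun y => ?_)
        have hy : y + s • J y ∈ K := by
          rw [hK, map_add, map_smul, hJJ, smul_add, smul_smul, hs, one_smul, add_comm]
        have h0 := hx ⟨_, hy⟩
        rw [res_polar, polar_add_right, polar_smul_right] at h0
        have e : polar Q (x : V) (J y) = s * polar Q (x : V) y := by
          conv_rhs => rw [← M.lin_polar u (x : V) y, ← hJdef, (hK _).1 x.2, polar_smul_left]
          rw [smul_eq_mul, ← mul_assoc, hs, one_mul]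
        rw [e, smul_eq_mul, ← mul_assoc, hs, one_mul, ← two_mul] at h0
        exact (mul_eq_zero.1 h0).resolve_left two_ne
      obtain ⟨⟨v, hv⟩, hvc⟩ := exists_Q_eq hnd hdim c
      refine M.not_fix hu.2.2 (show Q v = c from hvc) ?_
      rcases pm_one s hs with h1 | h1 <;> have h2 := (hK v).1 hv <;> rw [h1] at h2
      · exact Or.inl (by rw [h2, one_smul])
      · exact Or.inr (by rw [h2, neg_one_smul])
    set K1 := LinearMap.ker (J - 1)
    set K2 := LinearMap.ker (J + 1)
    have h1 : ∀ x, x ∈ K1 ↔ J x = (1 : ZMod 3) • x := fun x => by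
      rw [LinearMap.mem_ker, one_smul]; exact sub_eq_zero
    have h2 : ∀ x, x ∈ K2 ↔ J x = (-1 : ZMod 3) • x := fun x => by
      rw [LinearMap.mem_ker, neg_one_smul]; exact add_eq_zero_iff_eq_neg
    have hrange : LinearMap.range (J + 1) ≤ K1 := by
      rintro _ ⟨x, rfl⟩
      rw [h1, one_smul, LinearMap.add_apply, Module.End.one_apply, map_add, hJJ, add_comm]
    have hd := LinearMap.finrank_range_add_finrank_ker (J + 1)
    have hle := Submodule.finrank_mono hrange
    have hdim := M.dim
    rcases Nat.lt_or_ge (finrank (ZMod 3) K1) 2 with hlt | hge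
    · exact main (-1) (by decide) K2 h2 (by
        show 2 ≤ finrank (ZMod 3) (LinearMap.ker (J + 1))
        omega)
    · exact main 1 (by decide) K1 h1 hge
  refine ⟨hneg, fun v => ?_⟩
  have e := M.lin_polar u v (J v)
  rw [← hJdef, show J (J v) = -v from LinearMap.congr_fun hneg v, polar_neg_right,
    polar_comm Q (J v) v] at e
  have h2 : (2 : ZMod 3) * polar Q v (J v) = 0 := by linear_combination -e
  exact (mul_eq_zero.1 h2).resolve_left two_ne

theorem Model.commute_iff {s t : X} {x y : V} (hx : Q x = c) (hy : Q y = c)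
    (hs : Pm (lin s) (reflMap Q x)) (ht : Pm (lin t) (reflMap Q y)) (h : polar Q x y = 0) :
    Commute s t := M.commute_of_fix ht (by
  rcases hs with e | e <;> rw [e]
  · exact Or.inl (reflMap_fix h)
  · exact Or.inr (by rw [LinearMap.neg_apply, reflMap_fix h]))

theorem Model.polar_of_commute {s t : X} {x y : V} (hx : Q x = c) (hy : Q y = c)
    (hs : Pm (lin s) (reflMap Q x)) (ht : Pm (lin t) (reflMap Q y)) (hne : s ≠ t)
    (h : Commute s t) : polar Q x y = 0 := by
  have e1 : Pm (reflMap Q x * reflMap Q y) (reflMap Q y * reflMap Q x) := by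
    refine ((hs.mul ht).symm.trans (M.mul s t).symm).trans ?_
    rw [h.eq]
    exact (M.mul t s).trans (ht.mul hs)
  have e2 : Pm (reflMap Q (reflMap Q x y)) (reflMap Q y) := by
    have hconj : reflMap Q (reflMap Q x y) = reflMap Q x * reflMap Q y * reflMap Q x := by
      refine LinearMap.ext fun z => ?_
      show reflMap Q (reflMap Q x y) z = reflMap Q x (reflMap Q y (reflMap Q x z))
      have hp : ∀ a b, polar Q (reflMap Q x a) (reflMap Q x b) = polar Q a b :=
        fun a b => orth_polar (refl_mem Q x) a b
      have hq : Q (reflMap Q x y) = Q y := refl_mem Q x y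
      have hzz : reflMap Q x (reflMap Q x z) = z := reflMap_involutive Q x z
      rw [reflMap_apply Q y (reflMap Q x z), map_sub, map_smul, hzz, reflMap_apply Q (reflMap Q x y),
        hq, ← hp y (reflMap Q x z), hzz]
    rw [hconj]
    refine (e1.mul (Pm.refl _)).trans ?_
    rw [mul_assoc, reflMap_sq, mul_one]
    exact Pm.refl _
  by_contra hp
  rcases reflMap_inj M.nondeg M.dim M.ne ((refl_mem Q x y).trans hy) hy e2 with h' | h'
  · rw [refl_apply, sub_eq_self, smul_eq_zero] at h'
    rcases h' with h' | h'
    · exact mul_ne_zero (inv_ne_zero (hx ▸ M.ne)) hp h'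
    · rw [h', QuadraticMap.map_zero] at hx
      exact M.ne hx.symm
  · apply hne
    have hy' : (2 : ZMod 3) • y = ((Q x)⁻¹ * polar Q x y) • x := by
      rw [refl_apply] at h'
      linear_combination (norm := module) h'
    have hy2 : y = ((2 : ZMod 3) * ((Q x)⁻¹ * polar Q x y)) • x := by
      rw [mul_smul, ← hy', smul_smul, show (2 : ZMod 3) * 2 = 1 by decide, one_smul]
    refine M.inj (hs.trans (Pm.trans ?_ ht.symm))
    rw [hy2]
    set r := (2 : ZMod 3) * ((Q x)⁻¹ * polar Q x y)
    have hr : r * r = 1 := by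
      have := congrArg Q hy2
      rw [hy, Q_smul, hx] at this
      exact mul_right_cancel₀ M.ne (by rw [← this, one_mul])
    rcases pm_one r hr with h1 | h1 <;> rw [h1]
    · rw [one_smul]; exact Pm.refl _
    · rw [neg_one_smul, reflMap_neg]; exact Pm.refl _

/-- The product of two commuting members determines them. -/
theorem Model.prod_inj {p q r s : X} (hp : p ∈ E) (hq : q ∈ E) (hr : r ∈ E) (hs : s ∈ E)
    (hpq : p ≠ q) (hrs : r ≠ s) (hcm : Commute p q) (hcm' : Commute r s) (h : p * q = r * s) :
    p = r ∨ p = s := by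
  obtain ⟨x, hx, hpx⟩ := M.vec p hp
  obtain ⟨y, hy, hqy⟩ := M.vec q hq
  obtain ⟨z, hz, hrz⟩ := M.vec r hr
  obtain ⟨w, hw, hsw⟩ := M.vec s hs
  have hxy := M.polar_of_commute hx hy hpx hqy hpq hcm
  have hzw := M.polar_of_commute hz hw hrz hsw hrs hcm'
  have e : Pm (reflMap Q x * reflMap Q y) (reflMap Q z * reflMap Q w) := by
    refine ((hpx.mul hqy).symm.trans (M.mul p q).symm).trans ?_
    rw [h]
    exact (M.mul r s).trans (hrz.mul hsw)
  rcases e with e | e
  swap
  · obtain ⟨v, hv, h1, h2, h3, h4⟩ := exists_orth_vec M.nondeg M.dim x y z w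
    have := LinearMap.congr_fun e v
    simp only [Module.End.mul_apply, LinearMap.neg_apply, reflMap_fix h1, reflMap_fix h2,
      reflMap_fix h3, reflMap_fix h4] at this
    exact absurd (eq_zero_of_neg this) hv
  have e' := LinearMap.congr_fun e x
  simp only [Module.End.mul_apply] at e'
  rw [reflMap_fix ((polar_comm Q y x).trans hxy), reflMap_self (hx ▸ M.ne), reflMap_apply Q w,
    map_sub, map_smul, reflMap_fix hzw, reflMap_apply Q z] at e'
  set α := (Q z)⁻¹ * polar Q z x
  set β := (Q w)⁻¹ * polar Q w x
  have h3 : (3 : ZMod 3) = 0 := by decide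
  have hx' : x = ((2 : ZMod 3) * α) • z + ((2 : ZMod 3) * β) • w := by
    linear_combination (norm := module) (-(2 : ZMod 3)) • e' - h3 • x
  set a := (2 : ZMod 3) * α
  set b := (2 : ZMod 3) * β
  have hQ := congrArg Q hx'
  rw [hx, Q_add, Q_smul, Q_smul, hz, hw, polar_smul_left, polar_smul_right, hzw, smul_zero,
    smul_zero, add_zero, ← add_mul] at hQ
  have hab : a * a + b * b = 1 := mul_right_cancel₀ M.ne (by rw [← hQ, one_mul])
  have key : ∀ a b : ZMod 3, a * a + b * b = 1 → (b = 0 ∧ (a = 1 ∨ a = -1)) ∨ (a = 0 ∧ (b = 1 ∨ b = -1)) := by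
    decide
  rcases key a b hab with ⟨hb, ha⟩ | ⟨ha, hb⟩
  · refine Or.inl (M.inj (hpx.trans (Pm.trans ?_ hrz.symm)))
    rw [hx', hb, zero_smul, add_zero]
    rcases ha with ha | ha <;> rw [ha]
    · rw [one_smul]; exact Pm.refl _
    · rw [neg_one_smul, reflMap_neg]; exact Pm.refl _
  · refine Or.inr (M.inj (hpx.trans (Pm.trans ?_ hsw.symm)))
    rw [hx', ha, zero_smul, zero_add]
    rcases hb with hb | hb <;> rw [hb]
    · rw [one_smul]; exact Pm.refl _
    · rw [neg_one_smul, reflMap_neg]; exact Pm.refl _

theorem Model.dim_eight {ψ : X → X → X} (T : Twin E ψ) :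
    finrank (ZMod 3) V = 8 := by
  have hdim := M.dim
  set n := finrank (ZMod 3) V with hn
  obtain ⟨f, hf, hff⟩ := exists_frame (c := c) (n - 1) Q M.nondeg (by omega) M.ne
  choose t ht hte using fun i => M.mem (f i) (hf i)
  have hne : ∀ i j, i ≠ j → t i ≠ t j := by
    intro i j hij h
    have e : Pm (reflMap Q (f i)) (reflMap Q (f j)) := (hte i).symm.trans (h ▸ hte j)
    rcases reflMap_inj M.nondeg M.dim M.ne (hf i) (hf j) e with h' | h'
    · have := hff i j hij
      rw [h', polar_self', hf] at this
      exact mul_ne_zero two_ne M.ne this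
    · have := hff i j hij
      rw [h', polar_neg_left, polar_self', hf, neg_eq_zero] at this
      exact mul_ne_zero two_ne M.ne this
  have hcom : ∀ i j, i ≠ j → Commute (t i) (t j) := fun i j h =>
    M.commute_iff (hf i) (hf j) (hte i) (hte j) (hff i j h)
  have hinv : ∀ i j, i ≠ j → lin (ψ (t i) (t j)) * lin (ψ (t i) (t j)) = -1 := fun i j h =>
    (M.fix_invol (T.isFpfInvol (ht i) (ht j) (hne i j h) (hcom i j h))).1
  let o : Fin (n - 1) := ⟨0, by omega⟩
  let g : Fin (n - 2) → (V →ₗ[ZMod 3] V) := fun k => lin (ψ (t o) (t ⟨k.val + 1, by omega⟩))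
  have ho : ∀ k : Fin (n - 2), o ≠ ⟨k.val + 1, by omega⟩ := fun k h => by simp [o] at h
  have hsq : ∀ k, g k * g k = -1 := fun k => hinv _ _ (ho k)
  have hanti : ∀ k l, k ≠ l → Linear.Anti (g k) (g l) := by
    intro k l hkl
    have hij : (⟨k.val + 1, by omega⟩ : Fin (n - 1)) ≠ ⟨l.val + 1, by omega⟩ := fun h => hkl (by
      simp only [Fin.mk.injEq] at h
      exact Fin.ext (by omega))
    set i : Fin (n - 1) := ⟨k.val + 1, by omega⟩
    set j : Fin (n - 1) := ⟨l.val + 1, by omega⟩
    set a := ψ (t o) (t i)
    set b := ψ (t o) (t j)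
    have hab : a * b = ψ (t i) (t j) := by
      calc a * b = a * (a * ψ (t i) (t j)) := by rw [T.mul _ (ht o) _ (ht i) _ (ht j)]
        _ = _ := by rw [← mul_assoc, T.sq _ (ht o) _ (ht i) (hcom _ _ (ho k)), one_mul]
    have h1 : g k * g l * (g k * g l) = -1 := by
      rw [← ((M.mul a b)).sq, hab]
      exact hinv i j hij
    show g k * g l = -(g l * g k)
    have e : g k * (g k * g l * (g k * g l)) * g l = g l * g k := by
      calc _ = (g k * g k) * g l * g k * (g l * g l) := by simp only [mul_assoc]
        _ = g l * g k := by rw [hsq, hsq]; simp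
    rw [← e, h1, mul_neg, mul_one, neg_mul, neg_neg]
  have heven : Even n := by
    rw [hn]; exact Linear.even_finrank (hsq ⟨0, by omega⟩)
  obtain ⟨r, hr⟩ := heven
  by_contra h8
  rcases Nat.lt_or_ge n 8 with hlt | hge
  · have hn6 : n = 6 := by omega
    have := Linear.four_neg (fun p : Fin 4 => g ⟨p.val, by omega⟩) (fun p => hsq _)
      (fun p q hpq => hanti _ _ fun h => hpq (Fin.ext (by simpa using h)))
    rw [← hn, hn6] at this
    revert this; norm_num
  · have h2 := Linear.clifford (n - 2) g (fun k => Or.inr (hsq k)) hanti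
    rw [← hn, show (n - 2 - 1) / 2 = r - 2 by omega] at h2
    have hle := Nat.le_of_dvd (by omega) h2
    rcases Nat.lt_or_ge r 6 with h6 | h6
    · obtain rfl : r = 5 := by omega
      rw [hr] at h2
      revert h2; norm_num
    · have hgt : ∀ r, 6 ≤ r → r + r < 2 ^ (r - 2) := by
        intro r hr
        induction r, hr using Nat.le_induction with
        | base => norm_num
        | succ r hr ih =>
          rw [show r + 1 - 2 = (r - 2) + 1 by omega, pow_succ]
          omega
      have := hgt r h6
      omega

end Cfsg.Agent.Lib.FischerTriality11.OThree
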