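import Cfsg.Agent.Lib.Forms.TwoTranspositions
import Cfsg.Agent.Lib.FischerTriality11.Linear
import Cfsg.Agent.Lib.FischerTriality11.Twin
import Cfsg.Agent.Lib.FischerThm.Defs

/-!
# Orthogonal models over two elements

A model is an isomorphism onto the orthogonal group carrying the class to the reflections.  An
involution centralising no reflection has a totally singular fixed space of half the dimension; a
twin of a star of pairwise non-orthogonal vectors forces a power of two into the dimension.
-/
set_option autoImplicit false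
set_option linter.unusedSectionVars false

open Module QuadraticMap
open Cfsg.Agent.Lib.Forms

namespace Cfsg.Agent.Lib.FischerTriality11.OTwo

universe u

theorem h1 : ∀ a : ZMod 2, a ≠ 0 → a = 1 := by decide

theorem h01 : ∀ a : ZMod 2, a = 0 ∨ a = 1 := by decide

variable {X : Type u} [Group X] {E : Set X} {V : Type} [AddCommGroup V] [Module (ZMod 2) V]
  [FiniteDimensional (ZMod 2) V] {Q : QuadraticForm (ZMod 2) V}

/-- The class goes to the reflections. -/
structure Model (E : Set X) (Q : QuadraticForm (ZMod 2) V) (e : X ≃* orth Q) : Prop where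
  nondeg : Nondeg Q
  image : e '' E = reflSet Q

theorem add_self (x : V) : x + x = 0 := by
  rw [← two_smul (ZMod 2) x, show (2 : ZMod 2) = 0 from by decide, zero_smul]

theorem eq_of_add_eq_zero {x y : V} (h : x + y = 0) : x = y := by
  calc x = x + (y + y) := by rw [add_self, add_zero]
    _ = y := by rw [← add_assoc, h, zero_add]

theorem polar_eq (hv : ∀ x : ZMod 2, x + x = 0 := by decide) (x : V) : polar Q x x = 0 := by
  rw [polar_self', two_mul, hv]

theorem refl_apply2 {v : V} (hv : Q v = 1) (x : V) :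
    (orefl Q v).1 x = x + polar Q v x • v :=
  TwoTranspositions.refl_two h1 (by rw [hv]; exact one_ne_zero) x

theorem orefl_inj (hQ : Nondeg Q) {v w : V} (hv : Q v = 1) (hw : Q w = 1)
    (h : orefl Q v = orefl Q w) : v = w := by
  obtain ⟨z, hz⟩ : ∃ z, polar Q v z ≠ 0 := by
    by_contra hc
    push Not at hc
    have := hQ v hc
    rw [this, QuadraticMap.map_zero] at hv
    exact zero_ne_one hv
  have e : (orefl Q v).1 z = (orefl Q w).1 z := by rw [h]
  rw [refl_apply2 hv, refl_apply2 hw, add_right_inj, h1 _ hz, one_smul] at e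
  rcases h01 (polar Q w z) with h0 | h0 <;> rw [h0] at e
  · rw [zero_smul] at e
    rw [e, QuadraticMap.map_zero] at hv
    exact absurd hv zero_ne_one
  · rwa [one_smul] at e

variable {e : X ≃* orth Q} (M : Model E Q e)
include M

theorem Model.exists_mem {v : V} (hv : Q v = 1) : ∃ w ∈ E, e w = orefl Q v := by
  have : orefl Q v ∈ e '' E := M.image ▸ ⟨v, by rw [hv]; exact one_ne_zero, rfl⟩
  obtain ⟨w, hw, h⟩ := this
  exact ⟨w, hw, h⟩

theorem Model.exists_vec {w : X} (hw : w ∈ E) : ∃ v, Q v = 1 ∧ e w = orefl Q v := by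
  have : e w ∈ reflSet Q := M.image ▸ ⟨w, hw, rfl⟩
  obtain ⟨v, hv, h⟩ := this
  exact ⟨v, h1 _ hv, h⟩

theorem Model.commute_of_fix {u w : X} {v : V} (hw : e w = orefl Q v) (h : (e u).1 v = v) :
    Commute u w := by
  refine e.injective ?_
  rw [map_mul, map_mul, hw]
  have := TwoTranspositions.orefl_conj (e u) v
  rw [h, mul_inv_eq_iff_eq_mul] at this
  exact this

theorem Model.fix_singular {u : X} (h : ∀ w ∈ E, ¬ Commute u w) {v : V} (hv : (e u).1 v = v) :
    Q v = 0 := by
  rcases h01 (Q v) with h0 | h0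
  · exact h0
  obtain ⟨w, hw, hwe⟩ := M.exists_mem h0
  exact absurd (M.commute_of_fix hwe hv) (h w hw)

theorem Model.polar_of_not_commute {s t : X} {x y : V} (hs : e s = orefl Q x) (ht : e t = orefl Q y)
    (h : ¬ Commute s t) : polar Q x y = 1 := by
  rcases h01 (polar Q x y) with h0 | h0
  · exact absurd (M.commute_of_fix ht (by rw [hs]; exact refl_fix Q h0)) h
  · exact h0

theorem Model.not_commute_of_polar {s t : X} {x y : V} (hx : Q x = 1) (hy : Q y = 1)
    (hs : e s = orefl Q x) (ht : e t = orefl Q y) (h : polar Q x y = 1) : ¬ Commute s t := by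
  intro hc
  have hc' : Commute (orefl Q x) (orefl Q y) := by rw [← hs, ← ht]; exact hc.map e.toMonoidHom
  have hfix := TwoTranspositions.orefl_conj (orefl Q x) y
  rw [hc'.eq, mul_inv_cancel_right] at hfix
  have h' : Q ((orefl Q x).1 y) = 1 := ((orefl Q x).2 y).trans hy
  have := orefl_inj M.nondeg hy h' hfix
  rw [refl_apply2 hx, h, one_smul, left_eq_add] at this
  rw [this, QuadraticMap.map_zero] at hx
  exact zero_ne_one hx

theorem Model.fix_invol {u : X} (hu : IsFpfInvol E u) :
    (∀ v, (e u).1 ((e u).1 v) = v) ∧ (∀ v, polar Q v ((e u).1 v) = 0) ∧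
      ∀ v, (e u).1 v = v → Q v = 0 := by
  have hsq : ∀ v, (e u).1 ((e u).1 v) = v := fun v => by
    have : e u * e u = 1 := by rw [← map_mul, hu.1, map_one]
    exact LinearEquiv.congr_fun (congrArg Subtype.val this) v
  refine ⟨hsq, fun v => ?_, fun v => M.fix_singular hu.2.2⟩
  have hfix : (e u).1 (v + (e u).1 v) = v + (e u).1 v := by rw [map_add, hsq, add_comm]
  have h0 := M.fix_singular hu.2.2 hfix
  rwa [Q_add, (e u).2 v, (show ∀ a : ZMod 2, a + a = 0 by decide) (Q v), zero_add] at h0

/-- The fixed space of such an involution is totally singular of at least half the dimension. -/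
theorem Model.exists_singular_half {u : X} (hu : IsFpfInvol E u) :
    ∃ W : Submodule (ZMod 2) V, (∀ w ∈ W, Q w = 0) ∧
      finrank (ZMod 2) V ≤ 2 * finrank (ZMod 2) W := by
  obtain ⟨hsq, -, hsing⟩ := M.fix_invol hu
  refine ⟨fixSpace (e u).1, fun w hw => hsing w (mem_fixSpace.1 hw), ?_⟩
  have hle : LinearMap.range (dev (e u).1) ≤ fixSpace (e u).1 := by
    rintro _ ⟨v, rfl⟩
    rw [mem_fixSpace, dev_apply, map_sub, hsq]
    exact eq_of_add_eq_zero (by rw [sub_add_sub_cancel', sub_self])
  have := Submodule.finrank_mono hle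
  have := finrank_range_dev (e u).1
  omega

/-- A star of pairwise non-orthogonal vectors with a twin forces a power of two into the dimension. -/
theorem Model.star_dvd {ψ : X → X → X} (T : Twin E ψ) {n : ℕ} (x : Fin (n + 2) → V)
    (hx : ∀ i, Q (x i) = 1) (hxx : ∀ i j, i ≠ j → polar Q (x i) (x j) = 1) :
    2 ^ (n / 2) ∣ finrank (ZMod 2) V := by
  choose t ht hte using fun i => M.exists_mem (hx i)
  have hnc : ∀ i j, i ≠ j → ¬ Commute (t i) (t j) := fun i j h =>
    M.not_commute_of_polar (hx i) (hx j) (hte i) (hte j) (hxx i j h)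
  let lin : X → (V →ₗ[ZMod 2] V) := fun g => (e g).1.toLinearMap
  have hmul : ∀ g h, lin (g * h) = lin g * lin h := fun g h => by
    show (e (g * h)).1.toLinearMap = _
    rw [map_mul]; rfl
  -- order three without fixed points
  have key : ∀ i j, i ≠ j → lin (ψ (t i) (t j)) * lin (ψ (t i) (t j))
      + lin (ψ (t i) (t j)) + 1 = 0 := by
    intro i j hij
    set g := ψ (t i) (t j)
    have hg3 : g ^ 3 = 1 := T.cube _ (ht i) _ (ht j) (hnc i j hij)
    set U := (e g).1 with hU
    have hU3 : ∀ v, U (U (U v)) = v := fun v => by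
      have : e g * e g * e g = 1 := by rw [← map_mul, ← map_mul, ← pow_three', hg3, map_one]
      exact LinearEquiv.congr_fun (congrArg Subtype.val this) v
    have hfpf : ∀ w ∈ E, ¬ Commute g w :=
      T.fpf _ (ht i) _ (ht j) fun h => hnc i j hij (h ▸ Commute.refl _)
    have hzero : ∀ v, U v = v → v = 0 := by
      intro v hv
      by_contra hv0
      obtain ⟨y, hy⟩ : ∃ y, polar Q v y ≠ 0 := by
        by_contra hc
        push Not at hc
        exact hv0 (M.nondeg v hc)
      have hzfix : U (y + U y + U (U y)) = y + U y + U (U y) := by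
        rw [map_add, map_add, hU3]; abel
      have hpol : ∀ a, polar Q v (U a) = polar Q v a := fun a => by
        conv_lhs => rw [← hv]
        exact orth_polar (e g).2 v a
      have hvz : polar Q v (y + U y + U (U y)) = 1 := by
        rw [polar_add_right, polar_add_right, hpol, hpol, hpol, h1 _ hy]; decide
      have h12 := M.fix_singular hfpf (show U (v + (y + U y + U (U y))) = _ by rw [map_add, hv, hzfix])
      rw [Q_add, M.fix_singular hfpf hv, M.fix_singular hfpf hzfix, hvz] at h12
      revert h12; decide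
    refine LinearMap.ext fun v => ?_
    show U (U v) + U v + v = 0
    refine hzero _ ?_
    rw [map_add, map_add, hU3]; abel
  let f : Fin n → (V →ₗ[ZMod 2] V) := fun k =>
    lin (ψ (t 0) (t k.succ.succ)) + lin (ψ (t 0) (t 1)) + 1
  have hchar : ∀ y : V →ₗ[ZMod 2] V, y + y = 0 := fun y => LinearMap.ext fun v => add_self (y v)
  have hpair : ∀ i j : Fin (n + 2), i ≠ 0 → j ≠ 0 → i ≠ j →
      lin (ψ (t 0) (t i)) * lin (ψ (t 0) (t j)) + lin (ψ (t 0) (t j)) * lin (ψ (t 0) (t i))
        + lin (ψ (t 0) (t i)) + lin (ψ (t 0) (t j)) = 1 := by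
    intro i j hi hj hij
    set a := lin (ψ (t 0) (t i)) with ha
    set b := lin (ψ (t 0) (t j)) with hb
    set c := lin (ψ (t i) (t j)) with hc
    have hsucc : ∀ (z : V →ₗ[ZMod 2] V), z * z + z + 1 = 0 → z * z = z + 1 ∧ z * (z * z) = 1 := by
      intro z hz
      have e1 : z * z = z + 1 := by
        calc z * z = z * z + ((z + 1) + (z + 1)) := by rw [hchar, add_zero]
          _ = (z * z + z + 1) + (z + 1) := by abel
          _ = z + 1 := by rw [hz, zero_add]
      refine ⟨e1, ?_⟩
      rw [e1, mul_add, mul_one, e1]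
      calc z + 1 + z = (z + z) + 1 := by abel
        _ = 1 := by rw [hchar, zero_add]
    obtain ⟨ha1, ha3⟩ := hsucc a (key 0 i hi.symm)
    obtain ⟨hb1, hb3⟩ := hsucc b (key 0 j hj.symm)
    obtain ⟨hc1, hc3⟩ := hsucc c (key i j hij)
    have hac : a * c = b := by rw [ha, hb, hc, ← hmul, T.mul _ (ht 0) _ (ht i) _ (ht j)]
    have ha3' : a * a * a = 1 := by rw [mul_assoc, ha3]
    have hb3' : b * (b * b) = 1 := hb3
    have ec : c = a * a * b := by rw [← hac, ← mul_assoc, ha3', one_mul]
    have hinv : c * (b * b * a) = 1 := by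
      calc c * (b * b * a) = a * a * (b * (b * b)) * a := by rw [ec]; simp only [mul_assoc]
        _ = 1 := by rw [hb3', mul_one, ha3']
    have hcc : c * c = b * b * a := by
      calc c * c = c * c * (c * (b * b * a)) := by rw [hinv, mul_one]
        _ = c * (c * c) * (b * b * a) := by simp only [mul_assoc]
        _ = b * b * a := by rw [hc3, one_mul]
    have e2 : (a * a) * b + (b * b) * a = 1 := by
      rw [← ec, ← hcc, hc1, ← add_assoc, hchar, zero_add]
    rw [ha1, hb1, add_mul, add_mul, one_mul, one_mul] at e2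
    rw [← e2]; abel
  refine Linear.fermion (by decide) n f (fun k => ?_) fun k l hkl => ?_
  · have hk1 : k.succ.succ ≠ (1 : Fin (n + 2)) := fun h =>
      Fin.succ_ne_zero k (Fin.succ_injective _ (h.trans Fin.succ_zero_eq_one.symm))
    have hp := hpair k.succ.succ 1 (Fin.succ_ne_zero _) (by simp) hk1
    have ka := key 0 k.succ.succ (Fin.succ_ne_zero _).symm
    have kb := key 0 1 (by simp)
    show (_ + _ + 1) * (_ + _ + 1) = (0 : V →ₗ[ZMod 2] V)
    set a := lin (ψ (t 0) (t k.succ.succ))
    set b := lin (ψ (t 0) (t 1))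
    calc (a + b + 1) * (a + b + 1) = (a * a + a + 1) + (b * b + b + 1) + (a * b + b * a + a + b)
          + ((0 : V →ₗ[ZMod 2] V) - 1) := by noncomm_ring
      _ = 0 := by rw [ka, kb, hp]; simp
  · have hk1 : ∀ p : Fin n, p.succ.succ ≠ (1 : Fin (n + 2)) := fun p h =>
      Fin.succ_ne_zero p (Fin.succ_injective _ (h.trans Fin.succ_zero_eq_one.symm))
    have hkl' : k.succ.succ ≠ l.succ.succ :=
      fun h => hkl (Fin.succ_injective _ (Fin.succ_injective _ h))
    have p1 := hpair k.succ.succ l.succ.succ (Fin.succ_ne_zero _) (Fin.succ_ne_zero _) hkl'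
    have p2 := hpair k.succ.succ 1 (Fin.succ_ne_zero _) (by simp) (hk1 k)
    have p3 := hpair l.succ.succ 1 (Fin.succ_ne_zero _) (by simp) (hk1 l)
    have kb := key 0 1 (by simp)
    show (_ + _ + 1) * (_ + _ + 1) + (_ + _ + 1) * (_ + _ + 1) = (1 : V →ₗ[ZMod 2] V)
    set a := lin (ψ (t 0) (t k.succ.succ))
    set c := lin (ψ (t 0) (t l.succ.succ))
    set b := lin (ψ (t 0) (t 1))
    calc (a + b + 1) * (c + b + 1) + (c + b + 1) * (a + b + 1)
        = (a * c + c * a + a + c) + (a * b + b * a + a + b) + (c * b + b * c + c + b)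
          + ((b * b + b + 1) + (b * b + b + 1))
          + ((0 : V →ₗ[ZMod 2] V) - 0) := by noncomm_ring
      _ = 1 := by rw [p1, p2, p3, kb]; simp [hchar]

/-- The product of two commuting members determines them. -/
theorem Model.prod_inj {p q r s : X} (hp : p ∈ E) (hq : q ∈ E) (hr : r ∈ E) (hs : s ∈ E)
    (hpq : p ≠ q) (hrs : r ≠ s) (hc : Commute p q) (hc' : Commute r s) (h : p * q = r * s) :
    p = r ∨ p = s := by
  obtain ⟨x, hx, hpx⟩ := M.exists_vec hp
  obtain ⟨y, hy, hqy⟩ := M.exists_vec hq
  obtain ⟨z, hz, hrz⟩ := M.exists_vec hr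
  obtain ⟨w, hw, hsw⟩ := M.exists_vec hs
  have orth' : ∀ {a b : X} {u v : V}, Q u = 1 → Q v = 1 → e a = orefl Q u → e b = orefl Q v →
      Commute a b → polar Q u v = 0 := by
    intro a b u v hu hv ha hb hab
    rcases h01 (polar Q u v) with h0 | h0
    · exact h0
    · exact absurd hab (M.not_commute_of_polar hu hv ha hb h0)
  have hpol := orth' hx hy hpx hqy hc
  have hpol' := orth' hz hw hrz hsw hc'
  obtain ⟨v, hv1, hv0⟩ : ∃ v, polar Q x v = 1 ∧ polar Q y v = 0 := by
    by_contra hcon
    push Not at hcon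
    obtain ⟨a, ha⟩ : ∃ a, polar Q x a = 1 := by
      by_contra hc2
      push Not at hc2
      have := M.nondeg x fun a => (h01 _).resolve_right (hc2 a)
      rw [this, QuadraticMap.map_zero] at hx
      exact zero_ne_one hx
    have heq : ∀ b, polar Q (x + y) b = 0 := by
      intro b
      rw [polar_add_left]
      rcases h01 (polar Q x b) with hb | hb
      · rcases h01 (polar Q y b) with hb' | hb'
        · rw [hb, hb', add_zero]
        · exfalso
          refine hcon (a + b) (by rw [polar_add_right, ha, hb, add_zero]) ?_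
          rw [polar_add_right, h1 _ (hcon a ha), hb']; decide
      · rw [hb, h1 _ (hcon b hb)]; decide
    have hxy := eq_of_add_eq_zero (M.nondeg _ heq)
    exact hpq (e.injective (by rw [hpx, hqy, hxy]))
  have hval : (orefl Q x).1 ((orefl Q y).1 v) = (orefl Q z).1 ((orefl Q w).1 v) := by
    have := congrArg e h
    rw [map_mul, map_mul, hpx, hqy, hrz, hsw] at this
    exact congrArg (fun g : orth Q => g.1 v) this
  rw [refl_apply2 hy, hv0, zero_smul, add_zero, refl_apply2 hx, hv1, one_smul, refl_apply2 hw,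
    refl_apply2 hz, polar_add_right, polar_smul_right, hpol', smul_zero, add_zero, add_assoc,
    add_right_inj] at hval
  rcases h01 (polar Q z v) with hα | hα <;> rcases h01 (polar Q w v) with hβ | hβ <;>
    rw [hα, hβ] at hval <;> simp only [zero_smul, one_smul, zero_add, add_zero] at hval
  · rw [hval, QuadraticMap.map_zero] at hx; exact absurd hx zero_ne_one
  · exact Or.inr (e.injective (by rw [hpx, hsw, hval]))
  · exact Or.inl (e.injective (by rw [hpx, hrz, hval]))
  · rw [hval, Q_add, hw, hz, polar_comm, hpol'] at hx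
    exact absurd hx (by decide)

end Cfsg.Agent.Lib.FischerTriality11.OTwo
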